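import Cfsg.Agent.Lib.Co1Recog.LocalCerts
import Cfsg.Agent.Lib.Co1Recog.Amalgam.Dict

/-!
The layered certificate of the graph of the sextet involution.
-/

set_option autoImplicit false

namespace Cfsg.Agent.Co1Recog

open Cfsg

/-- The layers. -/
theorem layered_cert : ∃ (d : Spor.Co1 ⧸ Co1Amalgam.N1 → ℕ) (B : ℕ),
    Co1Mult.Layered (Co1Amalgam.edgeAdj Co1Amalgam.N1 Co1Amalgam.sigma1) d
      ((1 : Spor.Co1) : Spor.Co1 ⧸ Co1Amalgam.N1) B :=
  Co1Amalgam.layered_of_local local_certs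

end Cfsg.Agent.Co1Recog
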