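import Cfsg.Agent.Lib.Co1Recog.Check

/-!
The list of neighbours of the standard cross passes the test.
-/

set_option autoImplicit false
set_option maxRecDepth 20000
set_option Elab.async false

namespace Cfsg.Agent.Co1Recog

open Cfsg.Agent.PermCert (allBelow allBelow_spec)

theorem base_0 : allBelow (fun i => baseOK (0 + i)) 600 = true := by decide +kernel

theorem base_1 : allBelow (fun i => baseOK (600 + i)) 600 = true := by decide +kernel

theorem base_2 : allBelow (fun i => baseOK (1200 + i)) 600 = true := by decide +kernel

theorem base_3 : allBelow (fun i => baseOK (1800 + i)) 600 = true := by decide +kernel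

theorem base_4 : allBelow (fun i => baseOK (2400 + i)) 600 = true := by decide +kernel

theorem base_5 : allBelow (fun i => baseOK (3000 + i)) 542 = true := by decide +kernel

theorem base_all : ∀ j < 3542, baseOK j = true :=
  below_six base_0 base_1 base_2 base_3 base_4 base_5

theorem baseOK_all : BaseOK := base_all

end Cfsg.Agent.Co1Recog
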