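import Cfsg.Agent.Lib.Co1Recog.Cross
import Cfsg.Agent.Lib.Co1Recog.SextetData
import Cfsg.Agent.Lib.Co1Out.Basic
import Mathlib.Logic.Relation

/-!
Kernel checkers for the neighbours of a cross and their meaning.
-/

set_option autoImplicit false
set_option maxRecDepth 10000

namespace Cfsg.Agent.Co1Recog

open Cfsg Cfsg.Agent.Golay Cfsg.Agent.Leech Cfsg.Agent.PermCert Cfsg.Agent.LeechMod Cfsg.Agent.SporPerm
open Cfsg.Agent.LeechOrbit (dec length_dec digSum)
open Cfsg.Agent.Co1Out (Gen GenOK el runP runP_spec run_spec forceN forceN_eq)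
open scoped Pointwise

/-! ### Codes -/

theorem getD_dec : ∀ (n c i : ℕ), i < n → (dec n c).getD i 0 = ((PermCert.get 4 c i : ℕ) : ℤ) - 8
  | 0, _, _, h => absurd h (Nat.not_lt_zero _)
  | n + 1, c, 0, _ => by simp [dec, PermCert.get]
  | n + 1, c, i + 1, h => by
    rw [dec, List.getD_cons_succ, getD_dec n (c / 16) i (by omega)]
    simp only [PermCert.get, Nat.shiftRight_eq_div_pow, Nat.div_div_eq_div_mul, Nat.pow_mul]
    norm_num [pow_succ']

theorem toVec_dec (c : ℕ) (p : GolayPt) :
    toVec (dec 24 c) p = ((PermCert.get 4 c (idx p) : ℕ) : ℤ) - 8 := getD_dec 24 c _ (idx_lt p)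

theorem digSum_eq : ∀ n c, digSum n c = ∑ i ∈ Finset.range n, PermCert.get 4 c i
  | 0, c => by simp [digSum]
  | n + 1, c => by
    rw [show digSum (n + 1) c = c % 16 + digSum n (c / 16) from rfl, digSum_eq n, Finset.sum_range_succ',
      Nat.add_comm]
    congr 1
    · refine Finset.sum_congr rfl fun i _ => ?_
      simp only [PermCert.get, Nat.shiftRight_eq_div_pow, Nat.div_div_eq_div_mul, Nat.pow_mul]
      norm_num [pow_succ']

theorem sum_toVec_dec (c : ℕ) : ∑ p, toVec (dec 24 c) p = (digSum 24 c : ℤ) - 192 := by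
  rw [Fintype.sum_equiv ptEquiv _ (fun i : Fin 24 => ((PermCert.get 4 c i.val : ℕ) : ℤ) - 8) fun p => toVec_dec c p,
    Finset.sum_sub_distrib, digSum_eq, Nat.cast_sum, ← Fin.sum_univ_eq_sum_range (fun i => ((PermCert.get 4 c i : ℕ) : ℤ))]
  simp

/-- A vector of values `±4` on four points. -/
def mkV (U s : ℕ) : ℕ :=
  pack 4 (fun i => bif U.testBit i then (bif s.testBit (popCount U i) then 4 else 12) else 8) 24

/-- The code is of the shape, on the mask, with the parity. -/
def bvOK (c U q : ℕ) : Bool :=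
  allBelow (fun i => bif U.testBit i then Nat.beq (PermCert.get 4 c i) 4 || Nat.beq (PermCert.get 4 c i) 12
    else Nat.beq (PermCert.get 4 c i) 8) 24 && Nat.beq ((digSum 24 c + 8 * q) % 16) 0

theorem exists_bv {c U q : ℕ} (h : bvOK c U q = true) :
    ∃ v : leechLattice, toVec (dec 24 c) = (v : GolayPt → ℤ) ∧ BV (v : GolayPt → ℤ) U q := by
  simp only [bvOK, Bool.and_eq_true] at h
  have hb : BV (toVec (dec 24 c)) U q := by
    refine ⟨fun p => ?_, ?_⟩
    · have := allBelow_spec _ _ h.1 (idx p) (idx_lt p)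
      rw [toVec_dec]
      cases hU : U.testBit (idx p) <;> rw [hU] at this
      · simp only [cond_false, Nat.beq_eq] at this; norm_num [this]
      · simp only [cond_true, Bool.or_eq_true, Nat.beq_eq] at this
        rcases this with e | e <;> norm_num [e]
    · rw [sum_toVec_dec]
      have := Nat.eq_of_beq_eq_true h.2
      omega
  have hmem : toVec (dec 24 c) ∈ leechLattice := by
    refine mem_leech.2 ⟨0, fun p => ?_, ?_, ?_⟩
    · rcases hb.val p with ⟨-, e | e⟩ | ⟨-, e⟩ <;> norm_num [e]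
    · have := hb.sum; omega
    · have : hword 0 (toVec (dec 24 c)) = 0 := funext fun p => by
        rcases hb.val p with ⟨-, e | e⟩ | ⟨-, e⟩ <;> simp [hword, e] <;> rfl
      rw [this]; exact golayCode.zero_mem
  exact ⟨⟨_, hmem⟩, rfl, hb⟩

/-! ### The neighbours of the standard cross -/

/-- The sextet of an index. -/
def sxAt (s : ℕ) : List ℕ := (sxData.getD (s / 42) []).getD (s % 42) []

/-- The head of a sextet. -/
def headAt (s : ℕ) : ℕ := (sxAt s).headD 0

/-- The basic vector of a neighbour. -/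
def vCode (j : ℕ) : ℕ := mkV (headAt (j / 2)) (j % 2)

/-- One neighbour is coded correctly. -/
def baseOK (j : ℕ) : Bool :=
  (bif Nat.beq (j % 2) 0 then sxOK (sxAt (j / 2)) else true) &&
  forceN (j / 2) (fun s => forceN (headAt s) fun h =>
    (forceN (mkV h (j % 2)) fun c => bvOK c h (j % 2)) &&
    ((sxAt s).all fun T => Nat.ble h T) &&
    (bif Nat.blt (j + 2) 3542 then Nat.blt h (headAt (s + 1)) else true))

open Classical in
/-- The neighbour with an index. -/
noncomputable def nbr (j : ℕ) : Set leechLattice :=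
  if h : ∃ v : leechLattice, toVec (dec 24 (vCode j)) = (v : GolayPt → ℤ) then xCross h.choose else ∅

theorem below_six {P : ℕ → Bool} (h0 : allBelow (fun i => P (0 + i)) 600 = true)
    (h1 : allBelow (fun i => P (600 + i)) 600 = true) (h2 : allBelow (fun i => P (1200 + i)) 600 = true)
    (h3 : allBelow (fun i => P (1800 + i)) 600 = true) (h4 : allBelow (fun i => P (2400 + i)) 600 = true)
    (h5 : allBelow (fun i => P (3000 + i)) 542 = true) : ∀ j < 3542, P j = true := by
  intro j hj
  have key : ∀ a n, allBelow (fun i => P (a + i)) n = true → a ≤ j → j < a + n → P j = true :=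
    fun a n h h1 h2 => by
      have := allBelow_spec _ _ h (j - a) (by omega)
      rwa [Nat.add_sub_cancel' h1] at this
  rcases Nat.lt_or_ge j 600 with h | h
  · exact key _ _ h0 (by omega) (by omega)
  rcases Nat.lt_or_ge j 1200 with h | h
  · exact key _ _ h1 (by omega) (by omega)
  rcases Nat.lt_or_ge j 1800 with h | h
  · exact key _ _ h2 (by omega) (by omega)
  rcases Nat.lt_or_ge j 2400 with h | h
  · exact key _ _ h3 (by omega) (by omega)
  rcases Nat.lt_or_ge j 3000 with h | h
  · exact key _ _ h4 (by omega) (by omega)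
  · exact key _ _ h5 (by omega) (by omega)

/-- The hypothesis of correctness of the list of neighbours. -/
abbrev BaseOK : Prop := ∀ j < 3542, baseOK j = true

theorem allBelow_of {f : ℕ → Bool} : ∀ {n : ℕ}, (∀ i < n, f i = true) → allBelow f n = true
  | 0, _ => rfl
  | n + 1, h => by
    show (allBelow f n && f n) = true
    rw [allBelow_of fun i hi => h i (Nat.lt_succ_of_lt hi), h n (Nat.lt_succ_self n)]; rfl

theorem bvOK_mkV {T q : ℕ} (hT : popCount T 24 = 4) (hq : q < 2) : bvOK (mkV T q) T q = true := by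
  have hget : ∀ i < 24, PermCert.get 4 (mkV T q) i =
      bif T.testBit i then (bif q.testBit (popCount T i) then 4 else 12) else 8 := fun i hi => by
    rw [mkV, get_pack _ _ _ _ hi]
    cases T.testBit i <;> cases q.testBit (popCount T i) <;> rfl
  have hsum : ∀ n ≤ 24, (∑ i ∈ Finset.range n, PermCert.get 4 (mkV T q) i) + 8 * (if q = 1 ∧ 0 < popCount T n then 1 else 0)
      = 8 * n + 4 * popCount T n := by
    intro n hn
    induction n with
    | zero => simp [popCount]
    | succ n ih =>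
      have := ih (by omega)
      rw [Finset.sum_range_succ, hget n (by omega),
        show popCount T (n + 1) = bif T.testBit n then popCount T n + 1 else popCount T n from rfl]
      cases T.testBit n
      · simp only [cond_false]; omega
      · simp only [cond_true]
        interval_cases q
        · simp at this ⊢; omega
        · by_cases h0 : popCount T n = 0
          · rw [h0] at this ⊢; simp at this ⊢; omega
          · have hb : Nat.testBit 1 (popCount T n) = false :=
              Nat.testBit_lt_two_pow (Nat.one_lt_two_pow h0)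
            rw [hb, cond_false]
            simp [Nat.pos_of_ne_zero h0] at this ⊢
            omega
  have hall : allBelow (fun i => bif T.testBit i then Nat.beq (PermCert.get 4 (mkV T q) i) 4 || Nat.beq (PermCert.get 4 (mkV T q) i) 12
      else Nat.beq (PermCert.get 4 (mkV T q) i) 8) 24 = true := allBelow_of fun i hi => by
    rw [hget i hi]
    cases T.testBit i <;> cases q.testBit (popCount T i) <;> rfl
  simp only [bvOK, Bool.and_eq_true, Nat.beq_eq]
  refine ⟨hall, ?_⟩
  have := hsum 24 le_rfl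
  rw [hT] at this
  rw [digSum_eq]
  interval_cases q <;> simp at this <;> omega

theorem popCount_even {w u : leechLattice} {U T q r : ℕ} (hw : BV (w : GolayPt → ℤ) U q)
    (hu : BV (u : GolayPt → ℤ) T r) (h : ip w u = 0 ∨ ip w u = 4 ∨ ip w u = -4) :
    popCount (U &&& T) 24 % 2 = 0 := by
  classical
  have hd : dotInt (w : GolayPt → ℤ) u = ∑ p ∈ maskSet (U &&& T), (w : GolayPt → ℤ) p * (u : GolayPt → ℤ) p := by
    rw [dotInt]
    refine (Finset.sum_subset (Finset.subset_univ _) fun p _ hp => ?_).symm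
    rw [maskSet_and, Finset.mem_inter, mem_maskSet, mem_maskSet] at hp
    rcases hw.val p with ⟨a, -⟩ | ⟨-, a⟩
    · rcases hu.val p with ⟨b, -⟩ | ⟨-, b⟩
      · exact absurd ⟨a, b⟩ hp
      · rw [b, mul_zero]
    · rw [a, zero_mul]
  have hterm : ∀ p ∈ maskSet (U &&& T), (32 : ℤ) ∣ (w : GolayPt → ℤ) p * (u : GolayPt → ℤ) p - 16 := by
    intro p hp
    rw [maskSet_and, Finset.mem_inter, mem_maskSet, mem_maskSet] at hp
    rcases hw.val p with ⟨-, a | a⟩ | ⟨a, -⟩ <;> rcases hu.val p with ⟨-, b | b⟩ | ⟨b, -⟩ <;>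
      first
        | (rw [a, b]; norm_num)
        | (rw [a] at hp; simp at hp)
        | (rw [b] at hp; simp at hp)
  have hs := Finset.dvd_sum hterm
  rw [Finset.sum_sub_distrib, ← hd, Finset.sum_const, card_maskSet, nsmul_eq_mul, ← eight_ip] at hs
  push_cast at hs
  omega

variable (hB : BaseOK)
include hB

theorem sx_spec {j : ℕ} (hj : j < 3542) :
    ∃ L, sxAt (j / 2) = headAt (j / 2) :: L ∧ sxOK (headAt (j / 2) :: L) = true := by
  have hok : sxOK (sxAt (j / 2)) = true := by
    have h := hB (2 * (j / 2)) (by omega)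
    simp only [baseOK, Bool.and_eq_true, show 2 * (j / 2) % 2 = 0 by omega, Nat.beq_refl, cond_true,
      show 2 * (j / 2) / 2 = j / 2 by omega] at h
    exact h.1
  unfold headAt
  cases e : sxAt (j / 2) with
  | nil => rw [e] at hok; simp [sxOK] at hok
  | cons a l => exact ⟨l, rfl, by rw [List.headD_cons, ← e]; exact hok⟩

theorem nbr_spec {j : ℕ} (hj : j < 3542) : ∃ v : leechLattice,
    BV (v : GolayPt → ℤ) (headAt (j / 2)) (j % 2) ∧ ip v v = 8 ∧ nbr j = xCross v := by
  have h := hB j hj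
  simp only [baseOK, forceN_eq, Bool.and_eq_true] at h
  obtain ⟨v, hv, hb⟩ := exists_bv h.2.1.1
  have hex : ∃ v : leechLattice, toVec (dec 24 (vCode j)) = (v : GolayPt → ℤ) := ⟨v, hv⟩
  have e : hex.choose = v := Subtype.ext (hex.choose_spec.symm.trans hv)
  obtain ⟨L, -, hL⟩ := sx_spec hB hj
  refine ⟨v, hb, hb.norm ((sxOK_spec hL).1 _ List.mem_cons_self).1, ?_⟩
  rw [nbr, dif_pos hex, e]

theorem nbr_mem {j : ℕ} (hj : j < 3542) : nbr j ∈ crossOrbit .B := by
  obtain ⟨v, hb, h8, e⟩ := nbr_spec hB hj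
  rw [e]
  exact xCross_mem_crossOrbit ⟨h8, hb.prop⟩

/-- The vectors of the shape lying in a neighbour. -/
theorem mem_nbr {j : ℕ} (hj : j < 3542) {w : leechLattice} {U : ℕ}
    (hw : BV (w : GolayPt → ℤ) U (j % 2)) (hU : U ∈ sxAt (j / 2)) : w ∈ nbr j := by
  obtain ⟨v, hb, -, e⟩ := nbr_spec hB hj
  obtain ⟨L, hL', hL⟩ := sx_spec hB hj
  rw [e]
  exact mem_cross hL hb hw (hL' ▸ hU)

theorem cases_nbr {j : ℕ} (hj : j < 3542) {u : leechLattice} (hu : u ∈ nbr j) :
    ∃ U ∈ sxAt (j / 2), BV (u : GolayPt → ℤ) U (j % 2) := by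
  obtain ⟨v, hb, -, e⟩ := nbr_spec hB hj
  obtain ⟨L, hL', hL⟩ := sx_spec hB hj
  rw [e] at hu
  rw [hL']
  exact cases_cross hL hb hu

theorem head_lt_of_lt : ∀ {a b : ℕ}, a < b → b < 1771 → headAt a < headAt b := by
  have step : ∀ a, a + 1 < 1771 → headAt a < headAt (a + 1) := fun a ha => by
    have h := hB (2 * a) (by omega)
    simp only [baseOK, forceN_eq, Bool.and_eq_true] at h
    rw [show 2 * a / 2 = a by omega] at h
    have h' := h.2.2
    rw [show Nat.blt (2 * a + 2) 3542 = true by simp only [Nat.blt_eq]; omega, cond_true, Nat.blt_eq] at h'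
    exact h'
  intro a b hab
  induction b with
  | zero => omega
  | succ b ih =>
    intro hb
    rcases Nat.lt_succ_iff_lt_or_eq.1 hab with h | h
    · exact (ih h (by omega)).trans (step b hb)
    · subst h; exact step a hb

theorem nbr_inj {i j : ℕ} (hi : i < 3542) (hj : j < 3542) (h : nbr i = nbr j) : i = j := by
  have key : ∀ {i j : ℕ}, i < 3542 → j < 3542 → nbr i = nbr j →
      headAt (j / 2) ≤ headAt (i / 2) ∧ i % 2 = j % 2 := by
    intro i j hi hj h
    obtain ⟨v, hb, h8, e⟩ := nbr_spec hB hi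
    have hv : v ∈ nbr j := by rw [← h, e]; exact self_mem_xCross h8
    obtain ⟨U, hU, hbU⟩ := cases_nbr hB hj hv
    have hall := hB j hj
    simp only [baseOK, forceN_eq, Bool.and_eq_true, List.all_eq_true, Nat.ble_eq] at hall
    obtain ⟨L, -, hL⟩ := sx_spec hB hi
    obtain ⟨L', hL'e, hL'⟩ := sx_spec hB hj
    have hUe : U = headAt (i / 2) := by
      refine maskSet_inj ((sxOK_spec hL').1 U (hL'e ▸ hU)).2.1 ((sxOK_spec hL).1 _ List.mem_cons_self).2.1 ?_
      ext p
      rcases hb.val p with ⟨a, b | b⟩ | ⟨a, b⟩ <;> rcases hbU.val p with ⟨c, d | d⟩ | ⟨c, d⟩ <;>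
        simp [mem_maskSet, a, c] <;> omega
    refine ⟨hUe ▸ hall.2.1.2 U hU, ?_⟩
    have := dvd_sub hb.sum hbU.sum
    omega
  have h1 := key hi hj h
  have h2 := key hj hi h.symm
  rcases lt_trichotomy (i / 2) (j / 2) with hlt | heq | hgt
  · have := head_lt_of_lt hB hlt (by omega); omega
  · omega
  · have := head_lt_of_lt hB hgt (by omega); omega

/-- **The list of neighbours is complete.** -/
theorem exists_nbr {Y : Set leechLattice} (hY : Y ∈ crossOrbit .B) : ∃ j < 3542, nbr j = Y := by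
  have hfin : (crossOrbit .B).Finite := Set.finite_of_ncard_ne_zero (by rw [ncard_crossOrbit]; norm_num [XType.size])
  have e : nbr '' {j | j < 3542} = crossOrbit .B := by
    refine Set.eq_of_subset_of_ncard_le ?_ ?_ hfin
    · rintro _ ⟨j, hj, rfl⟩; exact nbr_mem hB hj
    · rw [ncard_crossOrbit, Set.InjOn.ncard_image (f := nbr) (s := {j : ℕ | j < 3542})
        (fun i hi j hj h => nbr_inj hB hi hj h), show {j : ℕ | j < 3542} = ↑(Finset.range 3542) by ext; simp,
        Set.ncard_coe_finset, Finset.card_range]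
      exact le_of_eq rfl
  obtain ⟨j, hj, rfl⟩ := e.ge hY
  exact ⟨j, hj, rfl⟩

omit hB

/-- The adjacency test for two neighbours. -/
def adjB (i j : ℕ) : Bool :=
  forceN (headAt (j / 2)) fun U => (sxAt (i / 2)).all fun T =>
    (forceN (U &&& T) fun W => Nat.beq (popCount W 24 % 2) 0) &&
      !(Nat.beq U T && Nat.beq (i % 2) (j % 2))

theorem sum_four_signs : ∀ a b c d e f g h : Bool,
    let s : Bool → ℤ := fun x => if x then 1 else -1
    (s a + s b + s c + s d - s e - s f - s g - s h) % 4 ≠ 0 →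
    (s a * s e + s b * s f + s c * s g + s d * s h = 2 ∨ s a * s e + s b * s f + s c * s g + s d * s h = -2) := by
  decide +kernel

theorem dot_cases {w u : GolayPt → ℤ} {U T q r : ℕ} (hw : BV w U q) (hu : BV u T r) (hq : q < 2) (hr : r < 2)
    (hU : popCount U 24 = 4) (hUT : U < 16777216 ∧ T < 16777216) (hT : popCount T 24 = 4)
    (hev : popCount (U &&& T) 24 % 2 = 0) (hne : ¬ (U = T ∧ q = r)) :
    dotInt w u = 0 ∨ dotInt w u = 32 ∨ dotInt w u = -32 := by
  classical
  set S := maskSet (U &&& T) with hS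
  have hsum : dotInt w u = ∑ p ∈ S, w p * u p := by
    rw [dotInt]
    refine (Finset.sum_subset (Finset.subset_univ _) fun p _ hp => ?_).symm
    rw [hS, maskSet_and, Finset.mem_inter, mem_maskSet, mem_maskSet] at hp
    rcases hw.val p with ⟨a, -⟩ | ⟨-, a⟩
    · rcases hu.val p with ⟨b, -⟩ | ⟨-, b⟩
      · exact absurd ⟨a, b⟩ hp
      · rw [b, mul_zero]
    · rw [a, zero_mul]
  have hle : S.card ≤ 4 := by
    rw [← hU, ← card_maskSet U, hS, maskSet_and]
    exact Finset.card_le_card Finset.inter_subset_left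
  rw [← card_maskSet, ← hS] at hev
  have val : ∀ p ∈ S, (w p = 4 ∨ w p = -4) ∧ (u p = 4 ∨ u p = -4) := fun p hp => by
    rw [hS, maskSet_and, Finset.mem_inter, mem_maskSet, mem_maskSet] at hp
    rcases hw.val p with ⟨-, a⟩ | ⟨a, -⟩
    · rcases hu.val p with ⟨-, b⟩ | ⟨b, -⟩
      · exact ⟨a, b⟩
      · rw [b] at hp; simp at hp
    · rw [a] at hp; simp at hp
  rw [hsum]
  interval_cases hc : S.card
  · rw [Finset.card_eq_zero.1 hc]; simp
  · omega
  · obtain ⟨a, b, hab, e⟩ := Finset.card_eq_two.1 hc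
    rw [e, Finset.sum_pair hab]
    obtain ⟨ha, ha'⟩ := val a (by simp [e])
    obtain ⟨hb, hb'⟩ := val b (by simp [e])
    rcases ha with x | x <;> rcases ha' with x' | x' <;> rcases hb with y | y <;> rcases hb' with y' | y' <;>
      simp [x, x', y, y']
  · omega
  · have hSU : S = maskSet U := Finset.eq_of_subset_of_card_le (by rw [hS, maskSet_and]; exact Finset.inter_subset_left)
      (by rw [card_maskSet, hU, hc])
    have hST : S = maskSet T := Finset.eq_of_subset_of_card_le (by rw [hS, maskSet_and]; exact Finset.inter_subset_right)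
      (by rw [card_maskSet, hT, hc])
    have heq : U = T := maskSet_inj hUT.1 hUT.2 (hSU.symm.trans hST)
    have hqr : q ≠ r := fun h => hne ⟨heq, h⟩
    have hall : ∀ {x : GolayPt → ℤ} {V k : ℕ}, BV x V k → S = maskSet V → ∑ p, x p = ∑ p ∈ S, x p := by
      intro x V k hx hV
      refine (Finset.sum_subset (Finset.subset_univ _) fun p _ hp => ?_).symm
      rw [hV, mem_maskSet] at hp
      rcases hx.val p with ⟨a, -⟩ | ⟨-, a⟩
      · exact absurd a hp
      · exact a
    have h1 := hw.sum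
    have h2 := hu.sum
    rw [hall hw hSU] at h1
    rw [hall hu hST] at h2
    obtain ⟨a, b, c, d, hab, hac, had, hbc, hbd, hcd, e⟩ := Finset.card_eq_four.1 hc
    rw [e] at h1 h2 ⊢
    simp only [Finset.sum_insert, Finset.mem_insert, Finset.mem_singleton, Finset.sum_singleton, hab, hac, had,
      hbc, hbd, hcd, or_self, not_false_eq_true] at h1 h2 ⊢
    have tob : ∀ x : ℤ, (x = 4 ∨ x = -4) → ∃ t : Bool, x = 4 * if t then 1 else -1 := by
      rintro x (rfl | rfl)
      exacts [⟨true, rfl⟩, ⟨false, rfl⟩]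
    obtain ⟨⟨a1, hwa⟩, ⟨a2, hua⟩⟩ := (val a (by simp [e])).imp (tob _) (tob _)
    obtain ⟨⟨b1, hwb⟩, ⟨b2, hub⟩⟩ := (val b (by simp [e])).imp (tob _) (tob _)
    obtain ⟨⟨c1, hwc⟩, ⟨c2, huc⟩⟩ := (val c (by simp [e])).imp (tob _) (tob _)
    obtain ⟨⟨d1, hwd⟩, ⟨d2, hud⟩⟩ := (val d (by simp [e])).imp (tob _) (tob _)
    rw [hwa, hwb, hwc, hwd] at h1
    rw [hua, hub, huc, hud] at h2
    rw [hwa, hwb, hwc, hwd, hua, hub, huc, hud]
    have h := sum_four_signs a1 b1 c1 d1 a2 b2 c2 d2
    simp only at h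
    generalize (if a1 = true then (1 : ℤ) else -1) = A1 at *
    generalize (if b1 = true then (1 : ℤ) else -1) = B1 at *
    generalize (if c1 = true then (1 : ℤ) else -1) = C1 at *
    generalize (if d1 = true then (1 : ℤ) else -1) = D1 at *
    generalize (if a2 = true then (1 : ℤ) else -1) = A2 at *
    generalize (if b2 = true then (1 : ℤ) else -1) = B2 at *
    generalize (if c2 = true then (1 : ℤ) else -1) = C2 at *
    generalize (if d2 = true then (1 : ℤ) else -1) = D2 at *
    rcases h (by omega) with h | h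
    · right; left; linear_combination 16 * h
    · right; right; linear_combination 16 * h

include hB

/-- **The test gives adjacency.** -/
theorem adj_nbr {i j : ℕ} (hi : i < 3542) (hj : j < 3542) (h : adjB i j = true) : Adj (nbr i) (nbr j) := by
  obtain ⟨v, hv, hv8, ev⟩ := nbr_spec hB hi
  obtain ⟨w, hw, hw8, ew⟩ := nbr_spec hB hj
  rw [ev, ew, adj_xCross hv8 hw8]
  intro u hu
  rw [← ev] at hu
  obtain ⟨T, hT, hbT⟩ := cases_nbr hB hi hu
  simp only [adjB, forceN_eq, List.all_eq_true, Bool.and_eq_true, Nat.beq_eq, Bool.not_eq_eq_eq_not, Bool.not_true,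
    Bool.and_eq_false_iff] at h
  obtain ⟨hev, hne⟩ := h T hT
  obtain ⟨L, -, hL⟩ := sx_spec hB hj
  obtain ⟨L', hL'e, hL'⟩ := sx_spec hB hi
  obtain ⟨hU4, hUlt, -⟩ := (sxOK_spec hL).1 _ List.mem_cons_self
  obtain ⟨hT4, hTlt, -⟩ := (sxOK_spec hL').1 T (hL'e ▸ hT)
  have hd := dot_cases hw hbT (Nat.mod_lt _ two_pos) (Nat.mod_lt _ two_pos) hU4 ⟨hUlt, hTlt⟩ hT4 hev (by
    rintro ⟨e1, e2⟩
    rcases hne with hne | hne
    · exact absurd e1 (Nat.ne_of_beq_eq_false hne)
    · exact absurd e2.symm (Nat.ne_of_beq_eq_false hne))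
  rw [← eight_ip] at hd
  omega

/-- **Adjacency gives the test.** -/
theorem adjB_of_adj {i j : ℕ} (hi : i < 3542) (hj : j < 3542) (h : Adj (nbr i) (nbr j)) : adjB i j = true := by
  obtain ⟨v, hv, hv8, ev⟩ := nbr_spec hB hi
  obtain ⟨w, hw, hw8, ew⟩ := nbr_spec hB hj
  rw [ev, ew, adj_xCross hv8 hw8, ← ev] at h
  simp only [adjB, forceN_eq, List.all_eq_true, Bool.and_eq_true, Nat.beq_eq, Bool.not_eq_eq_eq_not, Bool.not_true,
    Bool.and_eq_false_iff]
  intro T hT
  obtain ⟨L', hL'e, hL'⟩ := sx_spec hB hi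
  obtain ⟨hT4, hTlt, -⟩ := (sxOK_spec hL').1 T (hL'e ▸ hT)
  refine ⟨?_, ?_⟩
  · obtain ⟨u, hu, hbu⟩ : ∃ u : leechLattice, u ∈ nbr i ∧ BV (u : GolayPt → ℤ) T (i % 2) := by
      have hex : bvOK (mkV T (i % 2)) T (i % 2) = true := bvOK_mkV hT4 (Nat.mod_lt _ two_pos)
      obtain ⟨u, -, hbu⟩ := exists_bv hex
      exact ⟨u, mem_nbr hB hi hbu hT, hbu⟩
    exact popCount_even hw hbu (h u hu)
  · by_contra hne
    push Not at hne
    simp only [Bool.ne_false_iff, Nat.beq_eq] at hne
    have hwi : w ∈ nbr i := mem_nbr hB hi (by rw [hne.2]; exact hw) (by rw [hne.1]; exact hT)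
    have := h w hwi
    omega

end Cfsg.Agent.Co1Recog
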