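import Mathlib.GroupTheory.GroupAction.Quotient
import Mathlib.Algebra.Group.Subgroup.Map
import Mathlib.Logic.Relation
import Mathlib.Tactic.Group

/-!
A map of graphs which is bijective on neighbourhoods and lifts all triangles is injective on a connected
source, when the lower neighbours are connected and edges inside a layer have a common lower neighbour;
the translation to a homomorphism of groups.
-/

set_option autoImplicit false

namespace Cfsg.Agent.Co1Recog

variable {Ω Ω' : Type*}

/-- Edges of the source lying bijectively over the edges of the target, closing all triangles. -/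
structure Lift (π : Ω' → Ω) (adj : Ω → Ω → Prop) (R : Ω' → Ω' → Prop) : Prop where
  surj : Function.Surjective π
  proj : ∀ {a b}, R a b → adj (π a) (π b)
  exists_lift : ∀ a y, adj (π a) y → ∃ b, π b = y ∧ R a b
  unique : ∀ {a b b'}, R a b → R a b' → π b = π b' → b = b'
  symm : ∀ {a b}, R a b → R b a
  tri : ∀ {a b c}, R a b → R b c → adj (π a) (π c) → R a c

/-- A neighbour one layer down. -/
def Down (adj : Ω → Ω → Prop) (d : Ω → ℕ) (x p : Ω) : Prop := adj x p ∧ d p + 1 = d x

/-- The layered local conditions. -/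
structure Layers (adj : Ω → Ω → Prop) (d : Ω → ℕ) (r : Ω) (n : ℕ) : Prop where
  irrefl : ¬ adj r r
  zero : ∀ x, d x = 0 → x = r
  bound : ∀ x, d x ≤ n
  step : ∀ x y, adj x y → d y ≤ d x + 1
  pred : ∀ x, d x ≠ 0 → ∃ p, Down adj d x p
  conn : ∀ x p q, Down adj d x p → Down adj d x q →
    Relation.ReflTransGen (fun a b => adj a b ∧ Down adj d x b) p q
  apex : ∀ x y, adj x y → d x = d y → ∃ p, Down adj d x p ∧ adj y p

variable {π : Ω' → Ω} {adj : Ω → Ω → Prop} {R : Ω' → Ω' → Prop}

/-- A section through all edges. -/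
theorem exists_section (hR : Lift π adj R) {d : Ω → ℕ} {r : Ω} {N : ℕ} (hL : Layers adj d r N)
    {r' : Ω'} (hr : π r' = r) :
    ∃ S : Ω → Ω', S r = r' ∧ (∀ x, π (S x) = x) ∧ ∀ x y, adj x y → R (S x) (S y) := by
  classical
  have hsymm : ∀ x y, adj x y → adj y x := by
    intro x y h
    obtain ⟨a, rfl⟩ := hR.surj x
    obtain ⟨b, rfl, hab⟩ := hR.exists_lift a y h
    exact hR.proj (hR.symm hab)
  have hd0 : d r = 0 := by
    by_contra h
    obtain ⟨p, hp⟩ := hL.pred r h
    have : ∀ k, ∀ x, d x = k → d r ≤ k := by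
      intro k
      induction k with
      | zero => exact fun x hx => by rw [← hL.zero x hx, hx]
      | succ k ih =>
        intro x hx
        obtain ⟨q, hq⟩ := hL.pred x (by omega)
        exact (ih q (by have := hq.2; omega)).trans (Nat.le_succ k)
    have := this _ p rfl
    have := hp.2
    omega
  suffices h : ∀ n, ∃ S : Ω → Ω', S r = r' ∧ (∀ x, π (S x) = x) ∧
      ∀ x y, d x ≤ n → d y ≤ n → adj x y → R (S x) (S y) by
    obtain ⟨S, h0, h1, h2⟩ := h N
    exact ⟨S, h0, h1, fun x y => h2 x y (hL.bound x) (hL.bound y)⟩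
  intro n
  induction n with
  | zero =>
    choose S hS using hR.surj
    refine ⟨fun x => if x = r then r' else S x, by simp, fun x => ?_, fun x y hx hy hxy => absurd hxy ?_⟩
    · dsimp only
      split_ifs with h
      · rw [hr, h]
      · exact hS x
    · rw [hL.zero x (Nat.le_zero.1 hx), hL.zero y (Nat.le_zero.1 hy)]
      exact hL.irrefl
  | succ n ih =>
    obtain ⟨S, hSr, hS, hSR⟩ := ih
    have hlift : ∀ x, d x = n + 1 → ∃ b, π b = x ∧ ∃ p, Down adj d x p ∧ R (S p) b := by
      intro x hx
      obtain ⟨p, hp⟩ := hL.pred x (by omega)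
      obtain ⟨b, hb, hpb⟩ := hR.exists_lift (S p) x (by rw [hS]; exact hsymm _ _ hp.1)
      exact ⟨b, hb, p, hp, hpb⟩
    choose f hf p₀ hp₀ hfR using hlift
    let T : Ω → Ω' := fun x => if h : d x = n + 1 then f x h else S x
    have hT : ∀ x, π (T x) = x := fun x => by
      simp only [T]; split_ifs with h
      · exact hf x h
      · exact hS x
    have hTS : ∀ x, d x ≤ n → T x = S x := fun x hx => dif_neg (by omega)
    have hdown : ∀ x, d x = n + 1 → ∀ p, Down adj d x p → R (S p) (T x) := by
      intro x hx p hp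
      rw [show T x = f x hx from dif_pos hx]
      induction hL.conn x _ p (hp₀ x hx) hp with
      | refl => exact hfR x hx
      | @tail a b hca hab ih =>
        have ha : d a ≤ n ∧ Down adj d x a := by
          rcases Relation.ReflTransGen.cases_tail hca with e | ⟨c, -, -, hc⟩
          · subst e; exact ⟨by have := (hp₀ x hx).2; omega, hp₀ x hx⟩
          · exact ⟨by have := hc.2; omega, hc⟩
        have hRab := hSR a b ha.1 (by have := hab.2.2; omega) hab.1
        exact hR.tri (hR.symm hRab) (ih ha.2) (by rw [hS, hf]; exact hsymm _ _ hab.2.1)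
    refine ⟨T, by rw [hTS r (by omega)]; exact hSr, hT, fun x y hx hy hxy => ?_⟩
    have hup : ∀ x y, d x = n + 1 → d y ≤ n → adj x y → R (T x) (T y) := fun x y hx hy hxy => by
      have := hL.step y x (hsymm _ _ hxy)
      rw [hTS y hy]
      exact hR.symm (hdown x hx y ⟨hxy, by omega⟩)
    rcases Nat.lt_or_ge n (d x) with h | h <;> rcases Nat.lt_or_ge n (d y) with h' | h'
    · obtain ⟨p, hp, hyp⟩ := hL.apex x y hxy (by omega)
      exact hR.tri (hR.symm (hdown x (by omega) p hp))
        (hdown y (by omega) p ⟨hyp, by have := hp.2; omega⟩) (by rw [hT, hT]; exact hxy)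
    · exact hup x y (by omega) h' hxy
    · exact hR.symm (hup y x (by omega) h (hsymm _ _ hxy))
    · rw [hTS x h, hTS y h']; exact hSR x y h h' hxy

/-! ### Groups -/

variable {P M : Type*} [Group P] [Group M]

/-- The cosets joined by `f N * f t * f N`. -/
def cosetAdj (f : P →* M) (N : Subgroup P) (t : P) (x y : M ⧸ N.map f) : Prop :=
  ∃ a : M, ∃ n ∈ N, x = (a : M ⧸ N.map f) ∧ y = ((a * f n * f t : M) : M ⧸ N.map f)

/-- **Criterion of injectivity** from the coset graph of the image. -/
theorem injective_of_layers (f : P →* M) (hf : Function.Surjective f) (N : Subgroup P) (t : P)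
    (hgen : ∀ H : Subgroup P, N ≤ H → t ∈ H → H = ⊤) (htt : t * t = 1)
    (hN : ∀ n ∈ N, f n = 1 → n = 1)
    (hK : ∀ n ∈ N, f (t * n * t) ∈ N.map f → t * n * t ∈ N)
    (hT : ∀ n ∈ N, (∃ a ∈ N, ∃ b ∈ N, f (t * n * t) = f a * f t * f b) →
      ∃ a ∈ N, ∃ b ∈ N, t * n * t = a * t * b)
    {d : M ⧸ N.map f → ℕ} {k : ℕ} (hL : Layers (cosetAdj f N t) d ((1 : M) : M ⧸ N.map f) k) :
    Function.Injective f := by
  let π : P ⧸ N → M ⧸ N.map f := Quotient.lift (fun p : P => ((f p : M) : M ⧸ N.map f)) fun a b h => by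
    show ((f a : M) : M ⧸ N.map f) = ((f b : M) : M ⧸ N.map f)
    rw [QuotientGroup.eq, ← map_inv, ← map_mul]
    exact Subgroup.mem_map_of_mem f (QuotientGroup.leftRel_apply.1 h)
  have hπ : ∀ p : P, π (p : P ⧸ N) = ((f p : M) : M ⧸ N.map f) := fun _ => rfl
  let R : P ⧸ N → P ⧸ N → Prop := fun x y =>
    ∃ a : P, ∃ n ∈ N, x = (a : P ⧸ N) ∧ y = ((a * n * t : P) : P ⧸ N)
  have mkR : ∀ (a : P), ∀ n ∈ N, R (a : P ⧸ N) ((a * n * t : P) : P ⧸ N) := fun a n hn => ⟨a, n, hn, rfl, rfl⟩
  -- every edge from a given coset, read at a given representative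
  have atR : ∀ {x y : P ⧸ N}, R x y → ∀ p : P, x = (p : P ⧸ N) → ∃ n ∈ N, y = ((p * n * t : P) : P ⧸ N) := by
    rintro x y ⟨a, n, hn, rfl, rfl⟩ p hp
    have h := QuotientGroup.eq.1 hp
    refine ⟨p⁻¹ * a * n, N.mul_mem ?_ hn, congrArg _ (by group)⟩
    simpa using N.inv_mem h
  have hsym : ∀ {x y : P ⧸ N}, R x y → R y x := by
    rintro x y ⟨a, n, hn, rfl, rfl⟩
    refine ⟨a * n * t, 1, N.one_mem, rfl, ?_⟩
    rw [mul_one, mul_assoc _ t t, htt, mul_one, QuotientGroup.eq, inv_mul_cancel_left]
    exact hn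
  have hft : f t * f t = 1 := by rw [← map_mul, htt, map_one]
  have hlift : Lift π (cosetAdj f N t) R := by
    refine ⟨fun x => ?_, ?_, ?_, ?_, hsym, ?_⟩
    · induction x using QuotientGroup.induction_on with
      | H m => obtain ⟨p, rfl⟩ := hf m; exact ⟨(p : P ⧸ N), rfl⟩
    · rintro x y ⟨a, n, hn, rfl, rfl⟩
      exact ⟨f a, n, hn, hπ a, by rw [hπ, map_mul, map_mul]⟩
    · intro x y h
      induction x using QuotientGroup.induction_on with
      | H p =>
        obtain ⟨a, n, hn, h1, rfl⟩ := h
        rw [hπ, QuotientGroup.eq] at h1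
        obtain ⟨m, hm, hfm⟩ := h1
        refine ⟨((p * (m * n) * t : P) : P ⧸ N), ?_, mkR p _ (N.mul_mem hm hn)⟩
        rw [hπ, map_mul, map_mul, map_mul, hfm]
        exact congrArg _ (by group)
    · intro x y y' h h' he
      induction x using QuotientGroup.induction_on with
      | H p =>
        obtain ⟨n, hn, rfl⟩ := atR h p rfl
        obtain ⟨n', hn', rfl⟩ := atR h' p rfl
        rw [hπ, hπ, QuotientGroup.eq] at he
        rw [QuotientGroup.eq]
        have e : (p * n * t)⁻¹ * (p * n' * t) = t * (n⁻¹ * n') * t := by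
          have : t⁻¹ = t := inv_eq_of_mul_eq_one_right htt
          calc (p * n * t)⁻¹ * (p * n' * t) = t⁻¹ * (n⁻¹ * n') * t := by group
            _ = _ := by rw [this]
        rw [← map_inv, ← map_mul, e] at he
        rw [e]
        exact hK _ (N.mul_mem (N.inv_mem hn) hn') he
    · intro x y z hxy hyz h
      induction y using QuotientGroup.induction_on with
      | H p =>
        obtain ⟨n, hn, rfl⟩ := atR (hsym hxy) p rfl
        obtain ⟨n', hn', rfl⟩ := atR hyz p rfl
        obtain ⟨a, m, hm, h1, h2⟩ := h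
        rw [hπ, QuotientGroup.eq] at h1 h2
        obtain ⟨u, hu, hfu⟩ := h1
        obtain ⟨v, hv, hfv⟩ := h2
        have e : (p * n * t)⁻¹ * (p * n' * t) = t * (n⁻¹ * n') * t := by
          have : t⁻¹ = t := inv_eq_of_mul_eq_one_right htt
          calc (p * n * t)⁻¹ * (p * n' * t) = t⁻¹ * (n⁻¹ * n') * t := by group
            _ = _ := by rw [this]
        have key : f (t * (n⁻¹ * n') * t) = f (u * m) * f t * f (v⁻¹) := by
          rw [← e, map_mul f u m, map_inv f v, map_mul f (p * n * t)⁻¹, map_inv, hfu, hfv]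
          group
        obtain ⟨a', ha', b', hb', hab⟩ := hT _ (N.mul_mem (N.inv_mem hn) hn')
          ⟨_, N.mul_mem hu hm, _, N.inv_mem hv, key⟩
        refine ⟨p * n * t, a', ha', rfl, ?_⟩
        rw [QuotientGroup.eq]
        have e2 : (p * n' * t)⁻¹ * (p * n * t * a' * t) = b'⁻¹ := by
          calc (p * n' * t)⁻¹ * (p * n * t * a' * t)
              = ((p * n * t)⁻¹ * (p * n' * t))⁻¹ * (a' * t) := by group
            _ = b'⁻¹ := by rw [e, hab]; group
        rw [e2]
        exact N.inv_mem hb'
  have hbase : π ((1 : P) : P ⧸ N) = ((1 : M) : M ⧸ N.map f) := by rw [hπ, map_one]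
  obtain ⟨S, hS1, hS, hSR⟩ := exists_section hlift hL hbase
  -- everything reachable from the base coset is in the image of the section
  have hreach : ∀ x, x = S (π x) := by
    let H : Subgroup P :=
      { carrier := {g | ∀ x, Relation.ReflTransGen R ((1 : P) : P ⧸ N) x ↔
          Relation.ReflTransGen R ((1 : P) : P ⧸ N) (g • x)}
        one_mem' := fun x => by rw [one_smul]
        mul_mem' := fun {g h} hg hh x => by rw [mul_smul, ← hg]; exact hh x
        inv_mem' := fun {g} hg x => by rw [hg (g⁻¹ • x), smul_inv_smul] }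
    have inv : ∀ (g : P) {x y : P ⧸ N}, R x y → R (g • x) (g • y) := by
      rintro g x y ⟨a, n, hn, rfl, rfl⟩
      refine ⟨g * a, n, hn, rfl, ?_⟩
      rw [MulAction.Quotient.smul_coe, smul_eq_mul, mul_assoc g a n, mul_assoc g]
    have move : ∀ g : P, Relation.ReflTransGen R ((1 : P) : P ⧸ N) ((g : P) : P ⧸ N) →
        Relation.ReflTransGen R ((1 : P) : P ⧸ N) ((g⁻¹ : P) : P ⧸ N) →
        ∀ x, Relation.ReflTransGen R ((1 : P) : P ⧸ N) x ↔
          Relation.ReflTransGen R ((1 : P) : P ⧸ N) (g • x) := by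
      intro g hg hgi x
      constructor
      · intro hx
        refine hg.trans ?_
        have : (g : P ⧸ N) = g • ((1 : P) : P ⧸ N) := by rw [MulAction.Quotient.smul_coe, smul_eq_mul, mul_one]
        rw [this]
        exact hx.lift (g • ·) fun a b => inv g
      · intro hx
        refine hgi.trans ?_
        have : ((g⁻¹ : P) : P ⧸ N) = g⁻¹ • ((1 : P) : P ⧸ N) := by
          rw [MulAction.Quotient.smul_coe, smul_eq_mul, mul_one]
        rw [this, ← inv_smul_smul g x]
        exact hx.lift (g⁻¹ • ·) fun a b => inv g⁻¹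
    have hn : ∀ n ∈ N, ((n : P) : P ⧸ N) = ((1 : P) : P ⧸ N) := fun n hn => by
      rw [QuotientGroup.eq, mul_one]; exact N.inv_mem hn
    have hNH : N ≤ H := fun n hn' => move n (by rw [hn n hn']) (by rw [hn _ (N.inv_mem hn')])
    have htH : t ∈ H := by
      have ht1 : Relation.ReflTransGen R ((1 : P) : P ⧸ N) ((t : P) : P ⧸ N) :=
        Relation.ReflTransGen.single ⟨1, 1, N.one_mem, rfl, by rw [one_mul, one_mul]⟩
      exact move t ht1 (by rwa [inv_eq_of_mul_eq_one_right htt])
    have hall := hgen H hNH htH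
    intro x
    have hx : Relation.ReflTransGen R ((1 : P) : P ⧸ N) x := by
      induction x using QuotientGroup.induction_on with
      | H p =>
        have hp : p ∈ H := by rw [hall]; exact Subgroup.mem_top p
        have := (hp ((1 : P) : P ⧸ N)).1 Relation.ReflTransGen.refl
        rwa [MulAction.Quotient.smul_coe, smul_eq_mul, mul_one] at this
    induction hx with
    | refl => rw [hbase, hS1]
    | @tail a b _ hab ih =>
      rw [ih] at hab
      have h' := hlift.proj hab
      rw [hS] at h'
      exact hlift.unique hab (hSR _ _ h') (by rw [hS])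
  rw [injective_iff_map_eq_one]
  intro g hg
  have h1 : ((g : P) : P ⧸ N) = ((1 : P) : P ⧸ N) := by
    rw [hreach ((g : P) : P ⧸ N), hπ, hg, hS1]
  rw [QuotientGroup.eq, mul_one] at h1
  exact hN g (inv_inv g ▸ N.inv_mem h1) hg

end Cfsg.Agent.Co1Recog
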