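import Cfsg.Agent.Lib.Leech.CrossOrbits

/-!
Crosses with a vector of shape `4⁴`: the sextet and the sign parity, and the adjacency of crosses.
-/

set_option autoImplicit false
set_option maxRecDepth 10000

namespace Cfsg.Agent.Co1Recog

open Cfsg Cfsg.Agent.Golay Cfsg.Agent.Leech Finset
open Cfsg.Agent.LatticeMod2 (Rootless Cong)
open scoped Pointwise

/-- Values `±4` on the mask `T`, with parity `q` of the number of negative signs. -/
structure BV (v : GolayPt → ℤ) (T q : ℕ) : Prop where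
  sq : ∀ p, v p ^ 2 = if T.testBit (idx p) then 16 else 0
  sum : (16 : ℤ) ∣ ∑ p, v p - 8 * q

theorem BV.val {v : GolayPt → ℤ} {T q : ℕ} (h : BV v T q) (p : GolayPt) :
    (T.testBit (idx p) = true ∧ (v p = 4 ∨ v p = -4)) ∨ (T.testBit (idx p) = false ∧ v p = 0) := by
  have := h.sq p
  cases hT : T.testBit (idx p)
  · rw [hT] at this
    exact Or.inr ⟨rfl, (pow_eq_zero_iff two_ne_zero).1 this⟩
  · rw [hT, if_pos rfl, show (16 : ℤ) = 4 ^ 2 by norm_num] at this
    exact Or.inl ⟨rfl, sq_eq_sq_iff_eq_or_eq_neg.1 this⟩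

theorem BV.norm {v : leechLattice} {T q : ℕ} (h : BV (v : GolayPt → ℤ) T q) (hT : popCount T 24 = 4) :
    ip v v = 8 := by
  refine (ip_self_iff (n := 8)).2 ?_
  show sqNorm (v : GolayPt → ℤ) = _
  rw [← dotInt_self, dotInt, sum_congr rfl fun p _ => show _ = if p ∈ maskSet T then (16 : ℤ) else 0 by
    rw [← pow_two, h.sq p]; simp [mem_maskSet]]
  rw [sum_ite_mem, univ_inter, sum_const, card_maskSet, hT]
  norm_num

theorem BV.prop {v : GolayPt → ℤ} {T q : ℕ} (h : BV v T q) : XType.B.prop v := fun p => by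
  rcases h.val p with ⟨-, e | e⟩ | ⟨-, e⟩ <;> simp [e]

/-- A sextet: six masks of weight 4 covering everything, congruent to the first modulo the code. -/
def sxOK : List ℕ → Bool
  | [] => false
  | T :: L => Nat.beq (T :: L).length 6 &&
      ((T :: L).all fun U => Nat.beq (popCount U 24) 4 && Nat.blt U 16777216 && inCode (T ^^^ U)) &&
      Nat.beq ((T :: L).foldr Nat.lor 0) 16777215

theorem exists_testBit : ∀ (L : List ℕ) (i : ℕ), (L.foldr Nat.lor 0).testBit i = true → ∃ U ∈ L, U.testBit i = true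
  | [], i, h => by simp at h
  | U :: L, i, h => by
    rw [List.foldr_cons, show Nat.lor U (L.foldr Nat.lor 0) = U ||| L.foldr Nat.lor 0 from rfl,
      Nat.testBit_or, Bool.or_eq_true] at h
    rcases h with h | h
    · exact ⟨U, List.mem_cons_self, h⟩
    · obtain ⟨W, hW, hb⟩ := exists_testBit L i h
      exact ⟨W, List.mem_cons_of_mem _ hW, hb⟩

theorem sxOK_spec {T : ℕ} {L : List ℕ} (h : sxOK (T :: L) = true) :
    (∀ U ∈ T :: L, popCount U 24 = 4 ∧ U < 16777216 ∧ inCode (T ^^^ U) = true) ∧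
      ∀ p, ∃ U ∈ T :: L, U.testBit (idx p) = true := by
  simp only [sxOK, Bool.and_eq_true, Nat.beq_eq, List.all_eq_true, Nat.blt_eq] at h
  refine ⟨fun U hU => ⟨(h.1.2 U hU).1.1, (h.1.2 U hU).1.2, (h.1.2 U hU).2⟩, fun p => exists_testBit _ _ ?_⟩
  rw [h.2]
  have := idx_lt p
  rw [show (16777215 : ℕ) = 2 ^ 24 - 1 by norm_num, Nat.testBit_two_pow_sub_one]
  simpa using this

/-- The word of half the difference of two such vectors. -/
theorem hword_diff {u v : GolayPt → ℤ} {T U q r : ℕ} (hv : BV v T q) (hu : BV u U r) :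
    (∀ p, (2 : ℤ) ∣ v p - u p) ∧ (∀ p, (2 : ℤ) ∣ (v p - u p) / 2) ∧
      hword 0 (fun p => (v p - u p) / 2) = ofMask (T ^^^ U) := by
  refine ⟨fun p => ?_, fun p => ?_, funext fun p => ?_⟩ <;>
    rcases hv.val p with ⟨hT, e | e⟩ | ⟨hT, e⟩ <;> rcases hu.val p with ⟨hU, f | f⟩ | ⟨hU, f⟩ <;>
      norm_num [hword, ofMask, Nat.testBit_xor, hT, hU, e, f] <;> decide

/-- **Vectors of the shape in one cross.** -/
theorem mem_cross {u v : leechLattice} {T : ℕ} {L : List ℕ} {q U : ℕ} (hL : sxOK (T :: L) = true)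
    (hv : BV (v : GolayPt → ℤ) T q) (hu : BV (u : GolayPt → ℤ) U q) (hU : U ∈ T :: L) :
    u ∈ xCross v := by
  obtain ⟨h4, -, hc⟩ := (sxOK_spec hL).1 U hU
  obtain ⟨h2, h2', hw⟩ := hword_diff hv hu
  refine ⟨hu.norm h4, ?_⟩
  have hz : (fun p => ((v : GolayPt → ℤ) p - (u : GolayPt → ℤ) p) / 2) ∈ leechLattice := by
    refine mem_leech.2 ⟨0, fun p => by simpa using h2' p, ?_, by rw [hw]; exact ofMask_mem_golayCode hc⟩
    have h := dvd_sub hv.sum hu.sum
    beta_reduce
    have e : (2 : ℤ) * ∑ p, ((v : GolayPt → ℤ) p - (u : GolayPt → ℤ) p) / 2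
        = (∑ p, (v : GolayPt → ℤ) p) - ∑ p, (u : GolayPt → ℤ) p := by
      rw [mul_sum, ← sum_sub_distrib]
      exact sum_congr rfl fun p _ => Int.mul_ediv_cancel' (h2 p)
    omega
  refine ⟨⟨_, hz⟩, Subtype.ext (funext fun p => ?_)⟩
  simp only [AddSubgroup.coe_sub, AddSubgroup.coe_nsmul, Pi.sub_apply, Pi.smul_apply, nsmul_eq_mul]
  push_cast
  rw [Int.mul_ediv_cancel' (h2 p)]

/-- A cross of this type consists of vectors of the shape. -/
theorem prop_of_orbit {X : Set leechLattice} (hX : X ∈ crossOrbit .B) {u : leechLattice} (hu : u ∈ X) :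
    XType.B.prop (u : GolayPt → ℤ) := by
  obtain ⟨a, rfl⟩ := hX
  obtain ⟨h8, -, hn⟩ := rep_spec .B
  have hfin : (xCross XType.B.rep).Finite := Set.finite_of_ncard_ne_zero (by rw [ncard_xCross h8]; norm_num)
  have heq : xCross XType.B.rep ∩ typeSet .B = xCross XType.B.rep :=
    Set.eq_of_subset_of_ncard_le Set.inter_subset_left
      (by rw [hn .B, if_pos rfl, ncard_xCross h8]; exact le_rfl) hfin
  obtain ⟨w, hw, rfl⟩ := hu
  exact (prop_mono _ a w).2 (heq.ge hw).2.2

/-- **A cross of the shape, vector by vector.** -/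
theorem cases_cross {u v : leechLattice} {T : ℕ} {L : List ℕ} {q : ℕ} (hL : sxOK (T :: L) = true)
    (hv : BV (v : GolayPt → ℤ) T q) (hu : u ∈ xCross v) :
    ∃ U ∈ T :: L, BV (u : GolayPt → ℤ) U q := by
  obtain ⟨hs, hcov⟩ := sxOK_spec hL
  have h8 := hv.norm (hs T List.mem_cons_self).1
  have hp : XType.B.prop (u : GolayPt → ℤ) :=
    prop_of_orbit (xCross_mem_crossOrbit ⟨h8, hv.prop⟩) hu
  obtain ⟨S, hS, hsq⟩ := shapeB hu.1 hp
  set U₀ := toMask S with hU₀
  have hbit : ∀ p, U₀.testBit (idx p) = decide (p ∈ S) := fun p => by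
    have h : U₀.testBit (idx p) = true ↔ p ∈ S := by rw [hU₀, ← mem_maskSet, maskSet_toMask]
    by_cases hp : p ∈ S
    · rw [h.2 hp, decide_eq_true hp]
    · rw [decide_eq_false hp]; simpa [hp] using h
  have hu' : ∀ p, (u : GolayPt → ℤ) p ^ 2 = if U₀.testBit (idx p) then 16 else 0 := fun p => by
    rw [hsq p, hbit]; simp
  obtain ⟨z, hz⟩ := hu.2
  have hval : ∀ p, (u : GolayPt → ℤ) p = (v : GolayPt → ℤ) p - 2 * (z : GolayPt → ℤ) p := fun p => by
    have := congrFun (congrArg Subtype.val hz) p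
    simp only [AddSubgroup.coe_sub, AddSubgroup.coe_nsmul, Pi.sub_apply, Pi.smul_apply, nsmul_eq_mul] at this
    push_cast at this
    omega
  have hu0 : BV (u : GolayPt → ℤ) U₀ q := by
    refine ⟨hu', ?_⟩
    obtain ⟨m, hm, hL0⟩ := exists_parity z.2
    have hev : ∀ p, (2 : ℤ) ∣ (z : GolayPt → ℤ) p := fun p => by
      rcases hv.val p with ⟨-, e | e⟩ | ⟨-, e⟩ <;> rcases hp p with f | f | f <;>
        · have := hval p; omega
    have hm0 : m = 0 := by
      rcases hm with rfl | rfl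
      · rfl
      · have := hL0.1 none; have := hev none; omega
    subst hm0
    have e : ∑ p, (u : GolayPt → ℤ) p = (∑ p, (v : GolayPt → ℤ) p) - 2 * ∑ p, (z : GolayPt → ℤ) p := by
      rw [mul_sum, ← sum_sub_distrib]; exact sum_congr rfl fun p _ => hval p
    have := hv.sum
    have := hL0.2.1
    rw [mul_zero, sub_zero] at this
    omega
  obtain ⟨h2, h2', hw⟩ := hword_diff hv hu0
  have hfun : (fun p => ((v : GolayPt → ℤ) p - (u : GolayPt → ℤ) p) / 2) = (z : GolayPt → ℤ) :=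
    funext fun p => by have := hval p; omega
  have hcode : ofMask (T ^^^ U₀) ∈ golayCode := by
    rw [← hw, hfun]
    exact (even_word fun p => by have := h2' p; rwa [show ((v : GolayPt → ℤ) p - (u : GolayPt → ℤ) p) / 2
      = (z : GolayPt → ℤ) p from congrFun hfun p] at this).2.2
  obtain ⟨p, hp'⟩ := card_pos.1 (show 0 < S.card by omega)
  obtain ⟨U, hU, hUp⟩ := hcov p
  obtain ⟨hU4, hUlt, hUc⟩ := hs U hU
  have hdiff : ofMask (U ^^^ U₀) ∈ golayCode := by
    rw [show U ^^^ U₀ = (T ^^^ U) ^^^ (T ^^^ U₀) by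
      rw [Nat.xor_assoc T U, ← Nat.xor_assoc U T, Nat.xor_comm U T, Nat.xor_assoc T U,
        ← Nat.xor_assoc T T, Nat.xor_self, Nat.zero_xor], ofMask_xor]
    exact golayCode.add_mem (ofMask_mem_golayCode hUc) hcode
  have hzero : ofMask (U ^^^ U₀) = 0 := by
    by_contra hne
    have h8' := card_support_ge hdiff hne
    rw [support_ofMask] at h8'
    have hsub : maskSet (U ^^^ U₀) ⊆ (maskSet U ∪ S).erase p := by
      intro i hi
      rw [mem_maskSet, Nat.testBit_xor, hbit] at hi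
      rw [mem_erase, mem_union, mem_maskSet]
      refine ⟨fun e => ?_, ?_⟩
      · subst e; simp [hUp, hp'] at hi
      · cases h : U.testBit (idx i) <;> simp [h] at hi ⊢
        exact hi
    have := card_le_card hsub
    rw [card_erase_of_mem (mem_union_right _ hp')] at this
    have h' := card_union_add_card_inter (maskSet U) S
    rw [card_maskSet, hU4, hS] at h'
    have : 0 < (maskSet U ∩ S).card := card_pos.2 ⟨p, mem_inter.2 ⟨mem_maskSet.2 hUp, hp'⟩⟩
    omega
  have hUU : U = U₀ := ofMask_inj (by norm_num; omega) (toMask_lt _) (by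
    rw [ofMask_xor, add_eq_zero_iff_eq_neg, CharTwo.neg_eq] at hzero
    exact hzero)
  exact ⟨U, hU, hUU ▸ hu0⟩

/-! ### Adjacency -/

/-- Crosses joined like the standard cross and a cross of the first type. -/
def Adj (X Y : Set leechLattice) : Prop := ∃ g : Co0, g • stdX = X ∧ g⁻¹ • Y ∈ crossOrbit .B

theorem Adj.smul {X Y : Set leechLattice} (h : Adj X Y) (k : Co0) : Adj (k • X) (k • Y) := by
  obtain ⟨g, rfl, hY⟩ := h
  exact ⟨k * g, mul_smul _ _ _, by rwa [mul_inv_rev, mul_smul, inv_smul_smul]⟩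

theorem Adj.smul_iff {X Y : Set leechLattice} (k : Co0) : Adj (k • X) (k • Y) ↔ Adj X Y :=
  ⟨fun h => by simpa [inv_smul_smul] using h.smul k⁻¹, fun h => h.smul k⟩

theorem mono_smul_crossOrbit (a : M24 × golayCode) {t : XType} {X : Set leechLattice}
    (h : X ∈ crossOrbit t) : mono a • X ∈ crossOrbit t := by
  obtain ⟨b, rfl⟩ := h
  obtain ⟨c, hc⟩ : ∃ c, mono c = mono a * mono b :=
    fixesStd_iff.1 (mem_crossStab.1 (mul_mem (mem_crossStab.2 (fixesStd_iff.2 ⟨a, rfl⟩))
      (mem_crossStab.2 (fixesStd_iff.2 ⟨b, rfl⟩))))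
  exact ⟨c, by simp only; rw [hc, mul_smul]⟩

theorem adj_iff_of {g : Co0} {X Y : Set leechLattice} (hg : g • stdX = X) :
    Adj X Y ↔ g⁻¹ • Y ∈ crossOrbit .B := by
  refine ⟨?_, fun h => ⟨g, hg, h⟩⟩
  rintro ⟨k, hk, hY⟩
  have hmem : g⁻¹ * k ∈ crossStab := MulAction.mem_stabilizer_iff.2 (by
    show (g⁻¹ * k) • stdX = stdX
    rw [mul_smul, hk, ← hg, inv_smul_smul])
  obtain ⟨a, ha⟩ := fixesStd_iff.1 (mem_crossStab.1 hmem)
  have := mono_smul_crossOrbit a hY
  rwa [ha, mul_smul, smul_inv_smul] at this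

theorem adj_stdX {Y : Set leechLattice} : Adj stdX Y ↔ Y ∈ crossOrbit .B := by
  rw [adj_iff_of (one_smul Co0 stdX), inv_one, one_smul]

/-- **Adjacency of crosses from the inner products.** -/
theorem adj_xCross {v w : leechLattice} (hv : ip v v = 8) (hw : ip w w = 8) :
    Adj (xCross v) (xCross w) ↔ ∀ u ∈ xCross v, ip w u = 0 ∨ ip w u = 4 ∨ ip w u = -4 := by
  obtain ⟨g, hg⟩ := exists_to_axis hv none
  have hgX : g⁻¹ • stdX = xCross v := by rw [stdX, ← hg, ← smul_xCross, inv_smul_smul]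
  rw [adj_iff_of hgX, inv_inv, smul_xCross]
  have hw' : ip (g • w) (g • w) = 8 := by rw [co0_ip, hw]
  constructor
  · intro h u hu
    have hp := prop_of_orbit h (self_mem_xCross hw')
    have hu' : g • u ∈ xCross (axis none) := by
      rw [← hg, ← smul_xCross]; exact Set.smul_mem_smul_set hu
    obtain ⟨i, s, hs, e⟩ := mem_stdCross_iff.1 (mem_xCross_axis.1 hu')
    have : ip (g • w) (g • u) = s * ((g • w : leechLattice) : GolayPt → ℤ) i := by
      rw [e, ip_comm, zsmul_left rootless_ip, ip_comm, ip_axis]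
    rw [co0_ip] at this
    rcases hs with rfl | rfl <;> rcases hp i with q | q | q <;> simp [q] at this <;> simp [this]
  · intro h
    refine xCross_mem_crossOrbit ⟨hw', fun i => ?_⟩
    have hi : g⁻¹ • axis i ∈ xCross v := by
      rw [show v = g⁻¹ • axis none from (by rw [← hg, inv_smul_smul]), ← smul_xCross]
      exact Set.smul_mem_smul_set (mem_xCross_axis.2 (mem_stdCross_iff.2 ⟨i, 1, Or.inl rfl, (one_smul _ _).symm⟩))
    have := h _ hi
    rw [← co0_ip g w, smul_inv_smul, ip_axis] at this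
    exact this

end Cfsg.Agent.Co1Recog
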