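import Cfsg.Agent.Lib.Co1Recog.Rows
import Cfsg.Agent.Lib.Co1Recog.NbrBData

/-!
Kernel checks for the neighbours of a cross of type B.
-/

set_option autoImplicit false
set_option maxRecDepth 20000
set_option Elab.async false

namespace Cfsg.Agent.Co1Recog

open Cfsg.Agent.PermCert (allBelow allBelow_spec)
open Cfsg.Agent.LeechOrbit (smallOK colsOK)
open Cfsg.Agent.SporPerm (matOK)

theorem gB_mat : (matOK gBMat && smallOK gBMat && colsOK gBMat gBCols) = true := by decide +kernel

theorem gB_ok : Co1Out.GenOK (gBMat, gBCols) := by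
  have h := gB_mat
  simp only [Bool.and_eq_true] at h
  exact ⟨h.1.1, h.1.2, h.2⟩

theorem gB_mark : tagOK 1 (Co1Recog.colCode gBMat markB) = true := by decide +kernel

theorem rowB_0 : allBelow (fun i => rowOK (gBMat, gBCols) rowB treeB 1 (0 + i)) 600 = true := by decide +kernel

theorem rowB_1 : allBelow (fun i => rowOK (gBMat, gBCols) rowB treeB 1 (600 + i)) 600 = true := by decide +kernel

theorem rowB_2 : allBelow (fun i => rowOK (gBMat, gBCols) rowB treeB 1 (1200 + i)) 600 = true := by decide +kernel

theorem rowB_3 : allBelow (fun i => rowOK (gBMat, gBCols) rowB treeB 1 (1800 + i)) 600 = true := by decide +kernel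

theorem rowB_4 : allBelow (fun i => rowOK (gBMat, gBCols) rowB treeB 1 (2400 + i)) 600 = true := by decide +kernel

theorem rowB_5 : allBelow (fun i => rowOK (gBMat, gBCols) rowB treeB 1 (3000 + i)) 542 = true := by decide +kernel

theorem rowB_all : ∀ j < 3542, rowOK (gBMat, gBCols) rowB treeB 1 j = true :=
  below_six rowB_0 rowB_1 rowB_2 rowB_3 rowB_4 rowB_5

theorem treeB_ok : treeOKB rowB 1 treeB = true := by decide +kernel

end Cfsg.Agent.Co1Recog
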