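import Cfsg.Agent.Lib.Co1Recog.Rows
import Cfsg.Agent.Lib.Co1Recog.NbrC42Data

/-!
Kernel checks for the neighbours of a cross of type C42.
-/

set_option autoImplicit false
set_option maxRecDepth 20000
set_option Elab.async false

namespace Cfsg.Agent.Co1Recog

open Cfsg.Agent.PermCert (allBelow allBelow_spec)
open Cfsg.Agent.LeechOrbit (smallOK colsOK)
open Cfsg.Agent.SporPerm (matOK)

theorem gC42_mat : (matOK gC42Mat && smallOK gC42Mat && colsOK gC42Mat gC42Cols) = true := by decide +kernel

theorem gC42_ok : Co1Out.GenOK (gC42Mat, gC42Cols) := by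
  have h := gC42_mat
  simp only [Bool.and_eq_true] at h
  exact ⟨h.1.1, h.1.2, h.2⟩

theorem gC42_mark : tagOK 3 (Co1Recog.colCode gC42Mat markC42) = true := by decide +kernel

theorem rowC42_0 : allBelow (fun i => rowOK (gC42Mat, gC42Cols) rowC42 treeC42 2 (0 + i)) 600 = true := by decide +kernel

theorem rowC42_1 : allBelow (fun i => rowOK (gC42Mat, gC42Cols) rowC42 treeC42 2 (600 + i)) 600 = true := by decide +kernel

theorem rowC42_2 : allBelow (fun i => rowOK (gC42Mat, gC42Cols) rowC42 treeC42 2 (1200 + i)) 600 = true := by decide +kernel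

theorem rowC42_3 : allBelow (fun i => rowOK (gC42Mat, gC42Cols) rowC42 treeC42 2 (1800 + i)) 600 = true := by decide +kernel

theorem rowC42_4 : allBelow (fun i => rowOK (gC42Mat, gC42Cols) rowC42 treeC42 2 (2400 + i)) 600 = true := by decide +kernel

theorem rowC42_5 : allBelow (fun i => rowOK (gC42Mat, gC42Cols) rowC42 treeC42 2 (3000 + i)) 542 = true := by decide +kernel

theorem rowC42_all : ∀ j < 3542, rowOK (gC42Mat, gC42Cols) rowC42 treeC42 2 j = true :=
  below_six rowC42_0 rowC42_1 rowC42_2 rowC42_3 rowC42_4 rowC42_5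

theorem treeC42_ok : treeOKB rowC42 2 treeC42 = true := by decide +kernel

end Cfsg.Agent.Co1Recog
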