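import Cfsg.Agent.Lib.Co1Recog.Rows
import Cfsg.Agent.Lib.Co1Recog.NbrC6Data

/-!
Kernel checks for the neighbours of a cross of type C6.
-/

set_option autoImplicit false
set_option maxRecDepth 20000
set_option Elab.async false

namespace Cfsg.Agent.Co1Recog

open Cfsg.Agent.PermCert (allBelow allBelow_spec)
open Cfsg.Agent.LeechOrbit (smallOK colsOK)
open Cfsg.Agent.SporPerm (matOK)

theorem gC6_mat : (matOK gC6Mat && smallOK gC6Mat && colsOK gC6Mat gC6Cols) = true := by decide +kernel

theorem gC6_ok : Co1Out.GenOK (gC6Mat, gC6Cols) := by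
  have h := gC6_mat
  simp only [Bool.and_eq_true] at h
  exact ⟨h.1.1, h.1.2, h.2⟩

theorem gC6_mark : tagOK 2 (Co1Recog.colCode gC6Mat markC6) = true := by decide +kernel

theorem rowC6_0 : allBelow (fun i => rowOK (gC6Mat, gC6Cols) rowC6 treeC6 2 (0 + i)) 600 = true := by decide +kernel

theorem rowC6_1 : allBelow (fun i => rowOK (gC6Mat, gC6Cols) rowC6 treeC6 2 (600 + i)) 600 = true := by decide +kernel

theorem rowC6_2 : allBelow (fun i => rowOK (gC6Mat, gC6Cols) rowC6 treeC6 2 (1200 + i)) 600 = true := by decide +kernel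

theorem rowC6_3 : allBelow (fun i => rowOK (gC6Mat, gC6Cols) rowC6 treeC6 2 (1800 + i)) 600 = true := by decide +kernel

theorem rowC6_4 : allBelow (fun i => rowOK (gC6Mat, gC6Cols) rowC6 treeC6 2 (2400 + i)) 600 = true := by decide +kernel

theorem rowC6_5 : allBelow (fun i => rowOK (gC6Mat, gC6Cols) rowC6 treeC6 2 (3000 + i)) 542 = true := by decide +kernel

theorem rowC6_all : ∀ j < 3542, rowOK (gC6Mat, gC6Cols) rowC6 treeC6 2 j = true :=
  below_six rowC6_0 rowC6_1 rowC6_2 rowC6_3 rowC6_4 rowC6_5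

theorem treeC6_ok : treeOKB rowC6 2 treeC6 = true := by decide +kernel

end Cfsg.Agent.Co1Recog
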