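import Cfsg.Agent.Lib.Co1Recog.Rows
import Cfsg.Agent.Lib.Co1Recog.NbrDData

/-!
Kernel checks for the neighbours of a cross of type D.
-/

set_option autoImplicit false
set_option maxRecDepth 20000
set_option Elab.async false

namespace Cfsg.Agent.Co1Recog

open Cfsg.Agent.PermCert (allBelow allBelow_spec)
open Cfsg.Agent.LeechOrbit (smallOK colsOK)
open Cfsg.Agent.SporPerm (matOK)

theorem gD_mat : (matOK gDMat && smallOK gDMat && colsOK gDMat gDCols) = true := by decide +kernel

theorem gD_ok : Co1Out.GenOK (gDMat, gDCols) := by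
  have h := gD_mat
  simp only [Bool.and_eq_true] at h
  exact ⟨h.1.1, h.1.2, h.2⟩

theorem gD_mark : tagOK 4 (Co1Recog.colCode gDMat markD) = true := by decide +kernel

theorem rowD_0 : allBelow (fun i => rowOK (gDMat, gDCols) rowD treeD 3 (0 + i)) 600 = true := by decide +kernel

theorem rowD_1 : allBelow (fun i => rowOK (gDMat, gDCols) rowD treeD 3 (600 + i)) 600 = true := by decide +kernel

theorem rowD_2 : allBelow (fun i => rowOK (gDMat, gDCols) rowD treeD 3 (1200 + i)) 600 = true := by decide +kernel

theorem rowD_3 : allBelow (fun i => rowOK (gDMat, gDCols) rowD treeD 3 (1800 + i)) 600 = true := by decide +kernel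

theorem rowD_4 : allBelow (fun i => rowOK (gDMat, gDCols) rowD treeD 3 (2400 + i)) 600 = true := by decide +kernel

theorem rowD_5 : allBelow (fun i => rowOK (gDMat, gDCols) rowD treeD 3 (3000 + i)) 542 = true := by decide +kernel

theorem rowD_all : ∀ j < 3542, rowOK (gDMat, gDCols) rowD treeD 3 j = true :=
  below_six rowD_0 rowD_1 rowD_2 rowD_3 rowD_4 rowD_5

theorem treeD_ok : treeOKB rowD 3 treeD = true := by decide +kernel

end Cfsg.Agent.Co1Recog
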