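import Cfsg.Agent.Lib.Co1Recog.BaseChecks
import Cfsg.Agent.Lib.Co1Recog.NbrBChecks
import Cfsg.Agent.Lib.Co1Recog.NbrC6Checks
import Cfsg.Agent.Lib.Co1Recog.NbrC42Checks
import Cfsg.Agent.Lib.Co1Recog.NbrDChecks
import Cfsg.Agent.Lib.Co1Recog.NbrGChecks
import Cfsg.Agent.Lib.Co1Recog.Layers.Base

/-!
The local certificates for the five types of crosses.
-/

set_option autoImplicit false
set_option maxRecDepth 10000

namespace Cfsg.Agent.Co1Recog

open Cfsg Cfsg.Agent.Golay Cfsg.Agent.Leech Cfsg.Agent.LeechMod Cfsg.Agent.SporPerm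
open Cfsg.Agent.LeechOrbit (dec smallOK)
open Cfsg.Agent.Co1Out (Gen GenOK el el_spec axisL toVec_axisL app)
open Cfsg.Agent.Co1Layers (LocalCert DownAt AdjX lay dX)
open scoped Pointwise

attribute [local irreducible] rowB rowC6 rowC42 rowD rowG treeB treeC6 treeC42 treeD treeG
  gBMat gC6Mat gC42Mat gDMat gGMat gBCols gC6Cols gC42Cols gDCols gGCols sxData

/-- The column of a matrix is the image of an axis. -/
theorem mem_orbit_of_mark {M : List (List ℤ)} (hm : matOK M = true) {i : Fin 24} {tg : ℕ}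
    (hc : tagOK tg (colCode M i) = true)
    (he : SporPerm.eqV (dec 24 (colCode M i)) (app M (axisL i)) = true) :
    TagX tg (el M • stdX) := by
  have hi : idx (pt i) = (i : ℕ) := idx_pt i
  have hv : toVec (dec 24 (colCode M i)) = ((el M • axis (pt i) : leechLattice) : GolayPt → ℤ) := by
    rw [eqV_iff.1 he, el_spec hm, ← toVec_axisL, mapMat_toVec (Co1Out.shapeOK_of_matOK hm)
      (Co1Out.length_axisL _), hi]
    rfl
  have h := tag_spec hc hv (by rw [co0_ip]; exact ip_axis_self _)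
  rwa [← smul_xCross, show xCross (axis (pt i)) = stdX from
    xCross_eq_of_mem (mem_xCross_axis.2 (mem_stdCross_iff.2 ⟨pt i, 1, Or.inl rfl, (one_smul _ _).symm⟩))] at h

theorem dX_eq_layer {X : Set leechLattice} (hX : X ∈ MulAction.orbit Co0 stdX) : dX X = layer X := by
  rw [stdX, orbit_xCross] at hX
  obtain ⟨x, hx, rfl⟩ := hX
  rcases cross_cases hx with e | ⟨t, ht⟩
  · rw [e, Co1Layers.dX_stdX, layer, if_pos rfl]
  · rw [Co1Layers.dX_of_mem ht, layer_of_orbit ht]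
    cases t <;> rfl

/-- The certificate in the form asked for. -/
theorem localCert_of {t : XType} {g : Co0} (hmem : g • stdX ∈ crossOrbit t) (h : LocalAt (g • stdX) (lay t)) :
    LocalCert t g := by
  have hd : ∀ Y ∈ crossOrbit .B, dX (g • Y) = layer (g • Y) := by
    intro Y hY
    obtain ⟨k, hk, hk'⟩ := adj_stdX.2 hY
    obtain ⟨b, hb⟩ := hY
    refine dX_eq_layer ?_
    have : Y ∈ MulAction.orbit Co0 stdX := by
      rw [stdX, orbit_xCross, ← hb]
      exact ⟨mono b • XType.B.rep, (co0_ip _ _ _).trans (rep_spec .B).1, (smul_xCross _ _).symm⟩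
    obtain ⟨k, rfl⟩ := this
    exact ⟨g * k, mul_smul _ _ _⟩
  have hadj : ∀ Y ∈ crossOrbit .B, Adj (g • stdX) (g • Y) := fun Y hY => (adj_stdX.2 hY).smul g
  have hX : ∀ {A B : Set leechLattice}, Adj A B → AdjX A B := fun {A B} ⟨k, h1, h2⟩ => ⟨k, h1.symm, h2⟩
  refine ⟨hmem, fun Y hY => ?_, ?_, fun Y hY hl => ?_⟩
  · rw [hd Y hY]; exact h.step _ (hadj Y hY)
  · obtain ⟨P, hP, hPl⟩ := h.pred
    have hR : g⁻¹ • P ∈ crossOrbit .B := (adj_iff_of (g := g) rfl).1 hP
    refine ⟨g⁻¹ • P, ⟨hR, by rw [hd _ hR, smul_inv_smul]; exact hPl⟩, fun Y ⟨hY, hYl⟩ => ?_⟩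
    rw [hd Y hY] at hYl
    have key : ∀ {A B : Set leechLattice},
        Relation.ReflTransGen (fun a b => Adj a b ∧ Adj (g • stdX) b ∧ layer b + 1 = lay t) A B →
        Relation.ReflTransGen (fun a b => AdjX a b ∧ DownAt t g b) (g⁻¹ • A) (g⁻¹ • B) := by
      intro A B hAB
      refine hAB.lift (g⁻¹ • ·) fun a b hab => ⟨hX (hab.1.smul g⁻¹), ?_⟩
      have hb : g⁻¹ • b ∈ crossOrbit .B := (adj_iff_of (g := g) rfl).1 hab.2.1
      exact ⟨hb, by rw [hd _ hb, smul_inv_smul]; exact hab.2.2⟩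
    have h1 := key (h.conn P (g • Y) hP hPl (hadj Y hY) hYl)
    have h2 := key (h.conn (g • Y) P (hadj Y hY) hYl hP hPl)
    rw [inv_smul_smul] at h1 h2
    exact ⟨h1, h2⟩
  · rw [hd Y hY] at hl
    obtain ⟨p, ⟨hp, hpl⟩, hYp⟩ := h.apex _ (hadj Y hY) hl
    have hb : g⁻¹ • p ∈ crossOrbit .B := (adj_iff_of (g := g) rfl).1 hp
    refine ⟨g⁻¹ • p, ⟨hb, by rw [hd _ hb, smul_inv_smul]; exact hpl⟩, hX ?_⟩
    have := hYp.smul g⁻¹
    rwa [inv_smul_smul] at this

theorem cert_of_checks {t : XType} {M : List (List ℤ)} {P : List ℕ × ℕ} (hg : GenOK (M, P))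
    {R : List (List ℕ)} {T : List (List (ℕ × ℕ))} {L : ℕ} (hL : lay t = L)
    (hR : ∀ j < 3542, rowOK (M, P) R T L j = true) (hT : treeOKB R L T = true)
    (hmem : el M • stdX ∈ crossOrbit t) : ∃ g, LocalCert t g := by
  subst hL
  refine ⟨el M, localCert_of hmem (localAt baseOK_all hg hR hT ?_)⟩
  rw [← Co1Layers.dX_of_mem hmem, dX_eq_layer ⟨el M, rfl⟩]

theorem mark_cols :
    (SporPerm.eqV (dec 24 (colCode gBMat markB)) (app gBMat (axisL markB)) &&
      SporPerm.eqV (dec 24 (colCode gC6Mat markC6)) (app gC6Mat (axisL markC6)) &&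
      SporPerm.eqV (dec 24 (colCode gC42Mat markC42)) (app gC42Mat (axisL markC42)) &&
      SporPerm.eqV (dec 24 (colCode gDMat markD)) (app gDMat (axisL markD)) &&
      SporPerm.eqV (dec 24 (colCode gGMat markG)) (app gGMat (axisL markG))) = true := by
  decide +kernel

theorem marks_lt : markB < 24 ∧ markC6 < 24 ∧ markC42 < 24 ∧ markD < 24 ∧ markG < 24 := by
  unfold markB markC6 markC42 markD markG
  norm_num

/-- **The certificates for all types.** -/
theorem local_certs : ∀ t, ∃ g, LocalCert t g := by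
  have h := mark_cols
  simp only [Bool.and_eq_true] at h
  obtain ⟨⟨⟨⟨hb, h6⟩, h42⟩, hd⟩, hg⟩ := h
  intro t
  cases t
  · exact cert_of_checks gB_ok rfl rowB_all treeB_ok
      (mem_orbit_of_mark (i := ⟨markB, marks_lt.1⟩) gB_ok.1 gB_mark hb)
  · exact cert_of_checks gC6_ok rfl rowC6_all treeC6_ok
      (mem_orbit_of_mark (i := ⟨markC6, marks_lt.2.1⟩) gC6_ok.1 gC6_mark h6)
  · exact cert_of_checks gC42_ok rfl rowC42_all treeC42_ok
      (mem_orbit_of_mark (i := ⟨markC42, marks_lt.2.2.1⟩) gC42_ok.1 gC42_mark h42)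
  · exact cert_of_checks gD_ok rfl rowD_all treeD_ok
      (mem_orbit_of_mark (i := ⟨markD, marks_lt.2.2.2.1⟩) gD_ok.1 gD_mark hd)
  · exact cert_of_checks gG_ok rfl rowG_all treeG_ok
      (mem_orbit_of_mark (i := ⟨markG, marks_lt.2.2.2.2⟩) gG_ok.1 gG_mark hg)

end Cfsg.Agent.Co1Recog
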