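import Cfsg.Agent.Lib.Co1Recog.Check
import Cfsg.Agent.Lib.Co1Recog.Cover

/-!
The layers of the crosses and the local conditions at a cross from a checked table of its neighbours.
-/

set_option autoImplicit false
set_option maxRecDepth 10000

namespace Cfsg.Agent.Co1Recog

open Cfsg Cfsg.Agent.Golay Cfsg.Agent.Leech Cfsg.Agent.PermCert Cfsg.Agent.LeechMod Cfsg.Agent.SporPerm
open Cfsg.Agent.LeechOrbit (dec length_dec)
open Cfsg.Agent.Co1Out (Gen GenOK el runP runP_spec run_spec prodEl forceN forceN_eq)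
open scoped Pointwise

/-- The number of coordinates with a property. -/
def cntD (f : ℕ → Bool) (c : ℕ) : ℕ :=
  Nat.rec 0 (fun i a => bif f (PermCert.get 4 c i) then a + 1 else a) 24

theorem cnt_mask (f : ℕ → Bool) : ∀ n ≤ 24,
    (Nat.rec 0 (fun i a => bif f i then a + 1 else a) n : ℕ) = popCount (mkMask f 24) n := by
  intro n
  induction n with
  | zero => intro _; rfl
  | succ n ih =>
    intro hn
    show (bif f n then _ + 1 else _) = bif (mkMask f 24).testBit n then _ + 1 else _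
    rw [ih (by omega), testBit_mkMask, decide_eq_true (show n < 24 by omega), Bool.true_and]
    rfl

theorem cntD_eq (f : ℕ → Bool) (c : ℕ) :
    cntD f c = (Finset.univ.filter fun p : GolayPt => f (PermCert.get 4 c (idx p)) = true).card := by
  rw [cntD, cnt_mask (fun i => f (PermCert.get 4 c i)) 24 le_rfl, ← card_maskSet]
  congr 1
  ext p
  simp [mem_maskSet, testBit_mkMask, idx_lt]

theorem cntD_all {f : ℕ → Bool} {c : ℕ} (h : cntD f c = 24) (p : GolayPt) :
    f (PermCert.get 4 c (idx p)) = true := by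
  rw [cntD_eq] at h
  have e := Finset.eq_univ_of_card _ (h.trans (show 24 = Fintype.card GolayPt by decide))
  exact (Finset.mem_filter.1 (Finset.eq_univ_iff_forall.1 e p)).2

theorem cntD_exists {f : ℕ → Bool} {c : ℕ} (h : cntD f c ≠ 0) :
    ∃ p : GolayPt, f (PermCert.get 4 c (idx p)) = true := by
  rw [cntD_eq] at h
  obtain ⟨p, hp⟩ := Finset.card_ne_zero.1 h
  exact ⟨p, (Finset.mem_filter.1 hp).2⟩

/-- The test for a tagged marker. -/
def tagOK (tg c : ℕ) : Bool :=
  bif Nat.beq tg 0 then Nat.beq (cntD (fun d => Nat.beq d 8) c) 23 && Nat.beq (cntD (fun d => Nat.beq d 0) c) 1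
  else bif Nat.beq tg 1 then Nat.beq (cntD (fun d => Nat.beq d 4 || Nat.beq d 8 || Nat.beq d 12) c) 24
  else bif Nat.beq tg 2 then !Nat.beq (cntD (fun d => Nat.beq d 2 || Nat.beq d 14) c) 0
  else bif Nat.beq tg 5 then !Nat.beq (cntD (fun d => Nat.beq d 3 || Nat.beq d 13) c) 0
  else (Nat.beq tg 3 || Nat.beq tg 4) &&
    Nat.beq (cntD (fun d => Nat.beq d 4 || Nat.beq d 6 || Nat.beq d 8 || Nat.beq d 10 || Nat.beq d 12) c) 24 &&
    Nat.beq (cntD (fun d => Nat.beq d 6 || Nat.beq d 10) c) (bif Nat.beq tg 3 then 8 else 12)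

/-- The meaning of a tag. -/
def TagX : ℕ → Set leechLattice → Prop
  | 0, X => X = stdX
  | 1, X => X ∈ crossOrbit .B
  | 2, X => X ∈ crossOrbit .C6
  | 3, X => X ∈ crossOrbit .C42
  | 4, X => X ∈ crossOrbit .D
  | 5, X => X ∈ crossOrbit .G
  | _, _ => False

/-- The layer of a tag. -/
def layT (tg : ℕ) : ℕ :=
  bif Nat.beq tg 0 then 0 else bif Nat.beq tg 1 then 1 else bif Nat.beq tg 2 || Nat.beq tg 3 then 2 else 3

theorem tag_spec {tg c : ℕ} (h : tagOK tg c = true) {w : leechLattice}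
    (hw : toVec (dec 24 c) = (w : GolayPt → ℤ)) (h8 : ip w w = 8) : TagX tg (xCross w) := by
  have hval : ∀ p, (w : GolayPt → ℤ) p = ((PermCert.get 4 c (idx p) : ℕ) : ℤ) - 8 := fun p => by
    rw [← hw, toVec_dec]
  have mem : ∀ t : XType, t.prop (w : GolayPt → ℤ) → xCross w ∈ crossOrbit t :=
    fun t ht => xCross_mem_crossOrbit ⟨h8, ht⟩
  unfold tagOK at h
  by_cases e0 : tg = 0
  · subst e0
    simp only [Nat.beq_refl, cond_true, Bool.and_eq_true, Nat.beq_eq] at h
    obtain ⟨p, hp⟩ := cntD_exists (show cntD (fun d => Nat.beq d 0) c ≠ 0 by omega)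
    rw [Nat.beq_eq] at hp
    have hz : ∀ q ≠ p, (w : GolayPt → ℤ) q = 0 := by
      intro q hq
      have h23 := h.1
      rw [cntD_eq] at h23
      have hsub : (Finset.univ.filter fun q : GolayPt => (fun d => Nat.beq d 8) (PermCert.get 4 c (idx q)) = true) ⊆
          Finset.univ.erase p := fun r hr => by
        rw [Finset.mem_erase]
        refine ⟨fun e => ?_, Finset.mem_univ _⟩
        rw [Finset.mem_filter, e, Nat.beq_eq, hp] at hr
        omega
      have e := Finset.eq_of_subset_of_card_le hsub (by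
        rw [h23, Finset.card_erase_of_mem (Finset.mem_univ _), Finset.card_univ, show Fintype.card GolayPt = 24 by decide])
      have := e.ge (Finset.mem_erase.2 ⟨hq, Finset.mem_univ q⟩)
      rw [Finset.mem_filter, Nat.beq_eq] at this
      rw [hval, this.2]; norm_num
    show xCross w = stdX
    refine (xCross_eq_of_mem (?_ : w ∈ xCross (axis none)))
    rw [mem_xCross_axis]
    refine mem_stdCross_iff.2 ⟨p, -1, Or.inr rfl, Subtype.ext (funext fun q => ?_)⟩
    simp only [AddSubgroup.coe_zsmul, Pi.smul_apply, smul_eq_mul, coe_axis]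
    rcases eq_or_ne q p with e | hq
    · rw [e, hval, hp, Pi.single_eq_same]; norm_num
    · rw [hz q hq, Pi.single_eq_of_ne hq]; norm_num
  by_cases e1 : tg = 1
  · subst e1
    simp only [show Nat.beq 1 0 = false from rfl, Nat.beq_refl, cond_false, cond_true, Nat.beq_eq] at h
    refine mem .B fun p => ?_
    have := cntD_all h p
    simp only [Bool.or_eq_true, Nat.beq_eq] at this
    rw [hval]; omega
  by_cases e2 : tg = 2
  · subst e2
    simp only [show Nat.beq 2 0 = false from rfl, show Nat.beq 2 1 = false from rfl, Nat.beq_refl, cond_false,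
      cond_true, Bool.not_eq_eq_eq_not, Bool.not_true] at h
    obtain ⟨p, hp⟩ := cntD_exists (Nat.ne_of_beq_eq_false h)
    simp only [Bool.or_eq_true, Nat.beq_eq] at hp
    refine mem .C6 ⟨p, ?_⟩
    rw [hval]; rcases hp with e | e <;> rw [e] <;> norm_num
  by_cases e5 : tg = 5
  · subst e5
    simp only [show Nat.beq 5 0 = false from rfl, show Nat.beq 5 1 = false from rfl,
      show Nat.beq 5 2 = false from rfl, Nat.beq_refl, cond_false,
      cond_true, Bool.not_eq_eq_eq_not, Bool.not_true] at h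
    obtain ⟨p, hp⟩ := cntD_exists (Nat.ne_of_beq_eq_false h)
    simp only [Bool.or_eq_true, Nat.beq_eq] at hp
    refine mem .G ⟨p, ?_⟩
    rw [hval]; rcases hp with e | e <;> rw [e] <;> norm_num
  rw [show Nat.beq tg 0 = false from Bool.eq_false_iff.2 (fun e => e0 (Nat.eq_of_beq_eq_true e)),
    show Nat.beq tg 1 = false from Bool.eq_false_iff.2 (fun e => e1 (Nat.eq_of_beq_eq_true e)),
    show Nat.beq tg 2 = false from Bool.eq_false_iff.2 (fun e => e2 (Nat.eq_of_beq_eq_true e)),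
    show Nat.beq tg 5 = false from Bool.eq_false_iff.2 (fun e => e5 (Nat.eq_of_beq_eq_true e))] at h
  simp only [cond_false, Bool.and_eq_true, Bool.or_eq_true, Nat.beq_eq] at h
  obtain ⟨⟨h34, hall⟩, hcnt⟩ := h
  have hv : ∀ p, (w : GolayPt → ℤ) p ^ 2 = 0 ∨ (w : GolayPt → ℤ) p ^ 2 = 4 ∨ (w : GolayPt → ℤ) p ^ 2 = 16 := by
    intro p
    have := cntD_all hall p
    simp only [Bool.or_eq_true, Nat.beq_eq] at this
    rw [hval]
    rcases this with (((e | e) | e) | e) | e <;> rw [e] <;> norm_num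
  have hfour : (Finset.univ.filter fun p => (w : GolayPt → ℤ) p ^ 2 = 4).card =
      cntD (fun d => Nat.beq d 6 || Nat.beq d 10) c := by
    rw [cntD_eq]
    congr 1
    refine Finset.filter_congr fun p _ => ?_
    have := cntD_all hall p
    simp only [Bool.or_eq_true, Nat.beq_eq] at this ⊢
    rw [hval]
    rcases this with (((e | e) | e) | e) | e <;> rw [e] <;> norm_num
  rcases h34 with rfl | rfl
  · exact mem .C42 ⟨hv, by rw [hfour, hcnt]; rfl⟩
  · exact mem .D ⟨hv, by rw [hfour, hcnt]; rfl⟩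

open Classical in
/-- The layer of a cross. -/
noncomputable def layer (X : Set leechLattice) : ℕ :=
  if X = stdX then 0 else if X ∈ crossOrbit .B then 1
  else if X ∈ crossOrbit .C6 ∨ X ∈ crossOrbit .C42 then 2 else 3

theorem layer_of_orbit {t : XType} {X : Set leechLattice} (h : X ∈ crossOrbit t) :
    layer X = if t = .B then 1 else if t = .C6 ∨ t = .C42 then 2 else 3 := by
  classical
  have h0 : X ≠ stdX := fun e => by subst e; exact stdX_not_mem t h
  have hiff : ∀ s, X ∈ crossOrbit s ↔ t = s :=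
    fun s => ⟨fun e => crossOrbit_unique h e, fun e => e ▸ h⟩
  rw [layer, if_neg h0]
  simp only [hiff]

theorem layer_tag : ∀ {tg : ℕ} {X : Set leechLattice}, TagX tg X → layer X = layT tg
  | 0, X, h => by
    have h' : X = stdX := h
    rw [layer, if_pos h']; rfl
  | 1, X, h => by rw [layer_of_orbit (t := .B) h]; rfl
  | 2, X, h => by rw [layer_of_orbit (t := .C6) h]; rfl
  | 3, X, h => by rw [layer_of_orbit (t := .C42) h]; rfl
  | 4, X, h => by rw [layer_of_orbit (t := .D) h]; rfl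
  | 5, X, h => by rw [layer_of_orbit (t := .G) h]; rfl
  | n + 6, X, h => h.elim

/-- The code of a column of a matrix. -/
def colCode (M : List (List ℤ)) (i : ℕ) : ℕ :=
  pack 4 (fun r => ((M.getD r []).getD i 0 + 8).toNat) 24

/-- The rows of a table. -/
def rowAt (R : List (List ℕ)) (j : ℕ) : ℕ := (R.getD (j / 60) []).getD (j % 60) 0

/-- The layer of a neighbour. -/
def layAt (R : List (List ℕ)) (j : ℕ) : ℕ := layT (rowAt R j / 128 % 8)

/-- The table is correct at one neighbour. -/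
def rowOK (g : Gen) (R : List (List ℕ)) (T : List (List (ℕ × ℕ))) (L j : ℕ) : Bool :=
  forceN (rowAt R j) fun r =>
  Nat.blt (r % 8) 6 &&
  (forceN ((sxAt (j / 2)).getD (r % 8) 0) fun U =>
   forceN (mkV U (r / 8 % 16)) fun c => bvOK c U (j % 2) && runP [g] c (tagOK (r / 128 % 8))) &&
  forceN (layT (r / 128 % 8)) fun l =>
  Nat.ble l (L + 1) &&
  (bif Nat.beq l L then
    forceN (r / 1024) fun w => Nat.blt w 3542 && Nat.beq (layAt R w + 1) L && adjB j w else true) &&
  (bif Nat.beq (l + 1) L then T.any fun B => B.any fun e => Nat.beq e.1 j else true)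

theorem rowOK_spec {g : Gen} {R : List (List ℕ)} {T : List (List (ℕ × ℕ))} {L j : ℕ} (h : rowOK g R T L j = true) :
    (rowAt R j % 8 < 6 ∧
      bvOK (mkV ((sxAt (j / 2)).getD (rowAt R j % 8) 0) (rowAt R j / 8 % 16))
        ((sxAt (j / 2)).getD (rowAt R j % 8) 0) (j % 2) = true ∧
      runP [g] (mkV ((sxAt (j / 2)).getD (rowAt R j % 8) 0) (rowAt R j / 8 % 16))
        (tagOK (rowAt R j / 128 % 8)) = true) ∧
    layAt R j ≤ L + 1 ∧
    (layAt R j = L → rowAt R j / 1024 < 3542 ∧ layAt R (rowAt R j / 1024) + 1 = L ∧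
      adjB j (rowAt R j / 1024) = true) ∧
    (layAt R j + 1 = L → ∃ e ∈ T.flatten, e.1 = j) := by
  simp only [rowOK, forceN_eq, Bool.and_eq_true, Nat.blt_eq, Nat.ble_eq] at h
  obtain ⟨⟨hk, hc, hr⟩, ⟨hl, hw⟩, ht⟩ := h
  refine ⟨⟨hk, hc, hr⟩, hl, fun e => ?_, fun e => ?_⟩
  · rw [show Nat.beq (layT (rowAt R j / 128 % 8)) L = true by rw [Nat.beq_eq]; exact e, cond_true] at hw
    simp only [Bool.and_eq_true, Nat.blt_eq, Nat.beq_eq] at hw
    exact ⟨hw.1.1, hw.1.2, hw.2⟩
  · rw [show Nat.beq (layT (rowAt R j / 128 % 8) + 1) L = true by rw [Nat.beq_eq]; exact e, cond_true] at ht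
    simp only [List.any_eq_true, Nat.beq_eq] at ht
    obtain ⟨B, hB, x, hx, e⟩ := ht
    exact ⟨x, List.mem_flatten.2 ⟨B, hB, hx⟩, e⟩

/-- The tree of lower neighbours. -/
def treeGo (R : List (List ℕ)) (L : ℕ) : List ℕ → List (ℕ × ℕ) → Bool
  | _, [] => true
  | seen, (a, p) :: rest =>
    Nat.blt a 3542 && Nat.beq (layAt R a + 1) L &&
      ((seen.isEmpty && Nat.beq a p) || ((seen.any fun s => Nat.beq s p) && adjB a p && adjB p a)) &&
      treeGo R L (a :: seen) rest

/-- The tree test. -/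
def treeOKB (R : List (List ℕ)) (L : ℕ) (T : List (List (ℕ × ℕ))) : Bool :=
  !T.flatten.isEmpty && treeGo R L [] T.flatten

theorem treeGo_spec {R : List (List ℕ)} {L : ℕ} (P : ℕ → ℕ → Prop) (root : ℕ)
    (hP : ∀ a b, a < 3542 → b < 3542 → layAt R a + 1 = L → layAt R b + 1 = L → adjB a b = true → P a b) :
    ∀ (rest : List (ℕ × ℕ)) (seen : List ℕ), treeGo R L seen rest = true →
      (∀ s ∈ seen, (s < 3542 ∧ layAt R s + 1 = L) ∧ Relation.ReflTransGen P root s ∧ Relation.ReflTransGen P s root) →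
      (seen = [] → ∀ e, rest.head? = some e → e.1 = root) →
      ∀ e ∈ rest, (e.1 < 3542 ∧ layAt R e.1 + 1 = L) ∧ Relation.ReflTransGen P root e.1 ∧
        Relation.ReflTransGen P e.1 root
  | [], _, _, _, _ => fun e he => by simp at he
  | (a, p) :: rest, seen, h, hs, h0 => by
    simp only [treeGo, forceN_eq, Bool.and_eq_true, Bool.or_eq_true, List.any_eq_true, Nat.blt_eq, Nat.beq_eq,
      List.isEmpty_iff] at h
    obtain ⟨⟨⟨ha, hl⟩, hcase⟩, hrest⟩ := h
    have hA : (a < 3542 ∧ layAt R a + 1 = L) ∧ Relation.ReflTransGen P root a ∧ Relation.ReflTransGen P a root := by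
      rcases hcase with ⟨he, -⟩ | ⟨⟨⟨s, hs', rfl⟩, h1⟩, h2⟩
      · have := h0 he (a, p) rfl
        simp only at this
        subst this
        exact ⟨⟨ha, hl⟩, .refl, .refl⟩
      · obtain ⟨⟨hs1, hs2⟩, r1, r2⟩ := hs s hs'
        exact ⟨⟨ha, hl⟩, r1.tail (hP _ _ hs1 ha hs2 hl h2), r2.head (hP _ _ ha hs1 hl hs2 h1)⟩
    intro e he
    rcases List.mem_cons.1 he with rfl | he
    · exact hA
    · exact treeGo_spec P root hP rest (a :: seen) hrest (fun s hs' => (List.mem_cons.1 hs').elim (fun e => e ▸ hA)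
        (hs s)) (fun e => by simp at e) e he

/-- The local conditions at one cross. -/
structure LocalAt (X : Set leechLattice) (L : ℕ) : Prop where
  lay : layer X = L
  step : ∀ Y, Adj X Y → layer Y ≤ L + 1
  pred : ∃ Y, Adj X Y ∧ layer Y + 1 = L
  conn : ∀ p q, Adj X p → layer p + 1 = L → Adj X q → layer q + 1 = L →
    Relation.ReflTransGen (fun a b => Adj a b ∧ Adj X b ∧ layer b + 1 = L) p q
  apex : ∀ Y, Adj X Y → layer Y = L → ∃ p, (Adj X p ∧ layer p + 1 = L) ∧ Adj Y p

/-- **The local conditions from a checked table.** -/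
theorem localAt {g : Gen} (hB : BaseOK) (hg : GenOK g) {R : List (List ℕ)} {T : List (List (ℕ × ℕ))} {L : ℕ}
    (hR : ∀ j < 3542, rowOK g R T L j = true) (hT : treeOKB R L T = true)
    (hlay : layer (el g.1 • stdX) = L) : LocalAt (el g.1 • stdX) L := by
  have hlayj : ∀ j < 3542, layer (el g.1 • nbr j) = layAt R j := by
    intro j hj
    obtain ⟨hk, hc, hrun⟩ := (rowOK_spec (hR j hj)).1
    obtain ⟨w, hw, hb⟩ := exists_bv hc
    obtain ⟨L', hL'e, hL'⟩ := sx_spec hB hj
    have hlen : (sxAt (j / 2)).length = 6 := by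
      rw [hL'e]; simp only [sxOK, Bool.and_eq_true, Nat.beq_eq] at hL'; exact hL'.1.1
    have hU : (sxAt (j / 2)).getD (rowAt R j % 8) 0 ∈ sxAt (j / 2) := by
      rw [List.getD_eq_getElem _ _ (by omega)]; exact List.getElem_mem _
    have hwj := mem_nbr hB hj hb hU
    obtain ⟨v, -, -, ev⟩ := nbr_spec hB hj
    have hgood : ∀ f ∈ [g], GenOK f := fun f hf => List.mem_singleton.1 hf ▸ hg
    obtain ⟨q, hq, htag⟩ := runP_spec hgood hrun
    have hqv : toVec (dec 24 q) = ((el g.1 • w : leechLattice) : GolayPt → ℤ) := by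
      rw [hq, run_spec hgood (length_dec _ _) hw, show prodEl [g] = el g.1 by simp [prodEl]]
    rw [ev] at hwj
    have h8 : ip (el g.1 • w) (el g.1 • w) = 8 := by rw [co0_ip]; exact hwj.1
    have e : el g.1 • nbr j = xCross (el g.1 • w) := by rw [← smul_xCross, ev, xCross_eq_of_mem hwj]
    rw [e]
    exact layer_tag (tag_spec htag hqv h8)
  have hadj : ∀ j < 3542, Adj (el g.1 • stdX) (el g.1 • nbr j) := fun j hj =>
    (adj_stdX.2 (nbr_mem hB hj)).smul _
  have hall : ∀ Y, Adj (el g.1 • stdX) Y → ∃ j < 3542, Y = el g.1 • nbr j := by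
    intro Y hY
    obtain ⟨j, hj, e⟩ := exists_nbr hB (((adj_iff_of (g := el g.1) rfl).1 hY))
    exact ⟨j, hj, by rw [e, smul_inv_smul]⟩
  have hdownT : ∀ j < 3542, layAt R j + 1 = L → ∃ e ∈ T.flatten, e.1 = j := by
    intro j hj hl
    exact (rowOK_spec (hR j hj)).2.2.2 hl
  simp only [treeOKB, Bool.and_eq_true, Bool.not_eq_eq_eq_not, Bool.not_true, List.isEmpty_eq_false_iff] at hT
  obtain ⟨hne, hgo⟩ := hT
  obtain ⟨⟨root, rp⟩, rest, hflat⟩ := List.exists_cons_of_ne_nil hne
  let P : ℕ → ℕ → Prop := fun a b => Adj (el g.1 • nbr a) (el g.1 • nbr b) ∧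
    Adj (el g.1 • stdX) (el g.1 • nbr b) ∧ layer (el g.1 • nbr b) + 1 = L
  have htree := treeGo_spec P root (fun a b ha hb _ hlb h =>
    ⟨(adj_nbr hB ha hb h).smul _, hadj b hb, by rw [hlayj b hb]; exact hlb⟩) _ [] hgo (by simp)
    (fun _ e he => by rw [hflat] at he; simp at he; rw [← he])
  refine ⟨hlay, fun Y hY => ?_, ?_, fun p q hp hpl hq hql => ?_, fun Y hY hYl => ?_⟩
  · obtain ⟨j, hj, rfl⟩ := hall Y hY
    rw [hlayj j hj]
    exact (rowOK_spec (hR j hj)).2.1
  · obtain ⟨⟨hr, hl⟩, -⟩ := htree (root, rp) (by simp [hflat])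
    exact ⟨_, hadj _ hr, by rw [hlayj _ hr]; exact hl⟩
  · obtain ⟨a, ha, rfl⟩ := hall p hp
    obtain ⟨b, hb, rfl⟩ := hall q hq
    rw [hlayj a ha] at hpl
    rw [hlayj b hb] at hql
    obtain ⟨ea, hea, rfl⟩ := hdownT a ha hpl
    obtain ⟨eb, heb, rfl⟩ := hdownT b hb hql
    exact ((htree ea hea).2.2.trans (htree eb heb).2.1).lift (fun j => el g.1 • nbr j) fun _ _ h => h
  · obtain ⟨j, hj, rfl⟩ := hall Y hY
    rw [hlayj j hj] at hYl
    obtain ⟨hw, hwl, hadjw⟩ := (rowOK_spec (hR j hj)).2.2.1 hYl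
    exact ⟨_, ⟨hadj _ hw, by rw [hlayj _ hw]; exact hwl⟩, (adj_nbr hB hj hw hadjw).smul _⟩

end Cfsg.Agent.Co1Recog
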